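import Cfsg.Agent.MinIdxPSU.Bound
import Cfsg.Agent.MinIdxPSU.Conclude
import Mathlib.LinearAlgebra.Matrix.GeneralLinearGroup.Defs
import Mathlib.GroupTheory.GroupAction.Quotient

/-!
The stabiliser of an isotropic point of the three-dimensional special unitary group, in coordinates.
-/

set_option autoImplicit false
set_option linter.style.haveILetI false
set_option linter.unusedSectionVars false

namespace CfsgLib.MinIdxU3

open Matrix CfsgLib.Unitary CfsgLib.Forms CfsgLib.MinIdxPSU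

variable {F : Type*} [Field F] [Finite F] {q : ℕ} (hF : Nat.card F = q ^ 2)

local notation "hh" => Cfsg.hermForm (1 + 1 + 1) F q
local notation "V3" => Fin (1 + 1 + 1) → F
local notation "G3" => G 1 F q

/-- The vector of length one orthogonal to the standard plane. -/
def wv : Fin (1 + 1 + 1) → F := emb (fun _ : Fin 1 => (1 : F))

omit [Finite F] in
theorem herm_one (a b : Fin 1 → F) : Cfsg.hermForm 1 F q a b = a 0 * b 0 ^ q := by
  simp [Cfsg.hermForm]

omit [Finite F] in
theorem emb_eq_smul (a : Fin 1 → F) : (emb a : V3) = a 0 • wv := by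
  rw [wv, ← map_smul]
  congr 1
  funext i
  rw [Subsingleton.elim i 0]
  simp

include hF

theorem herm_ww : hh (wv : V3) wv = 1 := by
  rw [wv, herm_emb hF, herm_one]; simp

theorem herm_we : hh (wv : V3) (ev hF) = 0 := herm_emb_ev hF _
theorem herm_ew : hh (ev hF) (wv : V3) = 0 := herm_ev_emb hF _
theorem herm_wf : hh (wv : V3) (fv hF) = 0 := herm_emb_fv hF _
theorem herm_fw : hh (fv hF) (wv : V3) = 0 := herm_fv_emb hF _

/-- Coordinates in the standard basis. -/
theorem expand (y : V3) : y = hh y wv • wv + (hh y (fv hF) • ev hF + hh y (ev hF) • fv hF) := by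
  have h := decompose hF y
  rw [emb_eq_smul] at h
  have e : hh y (wv : V3) = proj y 0 := by
    rw [wv, herm_emb_right hF, herm_one]; simp
  rw [e]
  exact h

theorem ext3 {g g' : G3} (hw : suMat g *ᵥ wv = suMat g' *ᵥ wv) (he : suMat g *ᵥ ev hF = suMat g' *ᵥ ev hF)
    (hf : suMat g *ᵥ fv hF = suMat g' *ᵥ fv hF) : g = g' :=
  ext_plane hF (fun a => by rw [emb_eq_smul, Matrix.mulVec_smul, Matrix.mulVec_smul, hw]) he hf

theorem herm_ne_of_ne {y : V3} (hy : y ≠ 0) : hh y wv ≠ 0 ∨ hh y (fv hF) ≠ 0 ∨ hh y (ev hF) ≠ 0 := by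
  by_contra hc
  push Not at hc
  refine hy ?_
  rw [expand hF y, hc.1, hc.2.1, hc.2.2]
  simp

/-- An isotropic vector orthogonal to the first one is a multiple of it. -/
theorem iso_perp_ev {y : V3} (hy : hh y y = 0) (hye : hh y (ev hF) = 0) : y = hh y (fv hF) • ev hF := by
  have h := expand hF y
  rw [hye, zero_smul, add_zero] at h
  have h2 : hh y y = hh y wv * (hh y wv) ^ q := by
    conv_lhs => rw [h]
    simp only [herm_add_left, herm_add_right hF, herm_smul_left, herm_smul_right hF, herm_ww hF, herm_we hF,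
      herm_ew hF, herm_ee hF]
    ring
  rw [hy] at h2
  have h3 : hh y (wv : V3) = 0 := by
    rcases mul_eq_zero.1 h2.symm with h' | h'
    · exact h'
    · exact eq_zero_of_pow_eq_zero h'
  rw [h3, zero_smul, zero_add] at h
  exact h

/-- The point of the first vector. -/
noncomputable def P0 : IsoPt (1 + 1 + 1) F q := pt hF (ev hF) (ev_ne_zero hF) (herm_ee hF)

/-- Its stabiliser. -/
noncomputable def Bor : Subgroup G3 := MulAction.stabilizer G3 (P0 hF)

theorem mem_Bor_iff {g : G3} : g ∈ Bor hF ↔ ∃ a : F, suMat g *ᵥ ev hF = a • ev hF := by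
  rw [Bor, MulAction.mem_stabilizer_iff, P0, smul_pt, pt_eq_iff]
  exact ⟨fun ⟨a, ha⟩ => ⟨a, ha.symm⟩, fun ⟨a, ha⟩ => ⟨a, ha.symm⟩⟩

/-- The eigenvalue on the first vector. -/
noncomputable def lam (g : G3) : F := hh (suMat g *ᵥ ev hF) (fv hF)

theorem Bor_ev {g : G3} (hg : g ∈ Bor hF) : suMat g *ᵥ ev hF = lam hF g • ev hF := by
  obtain ⟨a, ha⟩ := (mem_Bor_iff hF).1 hg
  rw [lam, ha, herm_smul_left, herm_ef hF, mul_one]

theorem lam_ne {g : G3} (hg : g ∈ Bor hF) : lam hF g ≠ 0 := fun h =>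
  su_mulVec_ne_zero g (ev_ne_zero hF) (by rw [Bor_ev hF hg, h, zero_smul])

theorem lam_mul {g g' : G3} (hg : g ∈ Bor hF) (hg' : g' ∈ Bor hF) : lam hF (g * g') = lam hF g * lam hF g' := by
  rw [lam, suMat_mul, ← Matrix.mulVec_mulVec, Bor_ev hF hg', Matrix.mulVec_smul, herm_smul_left, Bor_ev hF hg,
    herm_smul_left, herm_ef hF]
  ring

theorem lam_one : lam hF (1 : G3) = 1 := by rw [lam, suMat_one, Matrix.one_mulVec, herm_ef hF]

/-- The eigenvalue as a homomorphism. -/
noncomputable def lamHom : Bor (F := F) (q := q) hF →* Fˣ where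
  toFun g := Units.mk0 (lam hF (g : G3)) (lam_ne hF g.2)
  map_one' := Units.ext (lam_one hF)
  map_mul' g g' := Units.ext (lam_mul hF g.2 g'.2)

/-- The shift of the middle vector. -/
noncomputable def beta (g : G3) : F := hh (suMat g *ᵥ wv) (fv hF)

/-- The translation part of the last vector. -/
noncomputable def gam (g : G3) : F := hh (suMat g *ᵥ fv hF) wv

/-- The central part of the last vector. -/
noncomputable def del (g : G3) : F := hh (suMat g *ᵥ fv hF) (fv hF)

theorem pow_mul_lam {g : G3} (hg : g ∈ Bor hF) : hh (suMat g *ᵥ fv hF) (ev hF) = (lam hF g ^ q)⁻¹ := by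
  have h := su_preserves g (fv hF) (ev hF)
  rw [Bor_ev hF hg, herm_smul_right hF, herm_fe hF] at h
  exact eq_inv_of_mul_eq_one_right h

theorem Bor_wv {g : G3} (hg : g ∈ Bor hF) :
    suMat g *ᵥ wv = hh (suMat g *ᵥ wv) wv • wv + beta hF g • ev hF := by
  have h := expand hF (suMat g *ᵥ wv)
  have h1 := su_preserves g wv (ev hF)
  rw [Bor_ev hF hg, herm_smul_right hF, herm_we hF] at h1
  have h2 : hh (suMat g *ᵥ wv) (ev hF) = 0 :=
    (mul_eq_zero.1 h1).resolve_left (pow_ne_zero _ (lam_ne hF hg))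
  rw [h2, zero_smul, add_zero] at h
  exact h

theorem Bor_fv {g : G3} (hg : g ∈ Bor hF) :
    suMat g *ᵥ fv hF = gam hF g • wv + (del hF g • ev hF + (lam hF g ^ q)⁻¹ • fv hF) := by
  have h := expand hF (suMat g *ᵥ fv hF)
  rwa [pow_mul_lam hF hg] at h

/-- The middle eigenvalue is determined by the first. -/
theorem Bor_nu {g : G3} (hg : g ∈ Bor hF) : hh (suMat g *ᵥ wv) wv = lam hF g ^ q / lam hF g := by
  have hwg := Bor_wv hF hg
  set ν := hh (suMat g *ᵥ wv) wv with hν
  set T : Matrix (Fin 3) (Fin 3) F :=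
    !![lam hF g, beta hF g, del hF g; 0, ν, gam hF g; 0, 0, (lam hF g ^ q)⁻¹] with hT
  set P : Matrix (Fin (1 + 1 + 1)) (Fin (1 + 1 + 1)) F :=
    Matrix.of fun i j => (![ev hF, wv, fv hF] : Fin 3 → V3) j i with hP
  have hPT : suMat g * P = P * T := by
    refine Matrix.ext_iff_smul.mpr fun x => ?_
    rw [Matrix.smul_eq_mulVec, Matrix.smul_eq_mulVec, ← Matrix.mulVec_mulVec, ← Matrix.mulVec_mulVec]
    have hPx : ∀ y : Fin 3 → F, P *ᵥ y = y 0 • ev hF + y 1 • wv + y 2 • fv hF := fun y => by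
      funext i
      simp [hP, Matrix.mulVec, dotProduct, Fin.sum_univ_three]
      ring
    have hTx : ∀ y : Fin 3 → F, T *ᵥ y = ![lam hF g * y 0 + beta hF g * y 1 + del hF g * y 2,
        ν * y 1 + gam hF g * y 2, (lam hF g ^ q)⁻¹ * y 2] := fun y => by
      funext i
      fin_cases i <;> simp [hT, Matrix.mulVec, dotProduct, Fin.sum_univ_three]
    rw [hPx, hPx, hTx, Matrix.mulVec_add, Matrix.mulVec_add, Matrix.mulVec_smul, Matrix.mulVec_smul, Matrix.mulVec_smul,
      Bor_ev hF hg, hwg, Bor_fv hF hg]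
    simp only [Matrix.cons_val]
    module
  have hdet : IsUnit P.det := by
    rw [← Matrix.isUnit_iff_isUnit_det, ← Matrix.mulVec_surjective_iff_isUnit]
    intro y
    refine ⟨![hh y (fv hF), hh y wv, hh y (ev hF)], ?_⟩
    funext i
    conv_rhs => rw [expand hF y]
    simp [hP, Matrix.mulVec, dotProduct, Fin.sum_univ_three]
    ring
  have h := congrArg Matrix.det hPT
  rw [Matrix.det_mul, Matrix.det_mul, show (suMat g).det = 1 from g.1.2, one_mul, eq_comm, mul_eq_left₀ hdet.ne_zero]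
    at h
  rw [hT, Matrix.det_fin_three] at h
  simp at h
  have := lam_ne hF hg
  field_simp at h ⊢
  linear_combination h

theorem beta_eq {g : G3} (hg : g ∈ Bor hF) :
    lam hF g ^ q / lam hF g * gam hF g ^ q + beta hF g * (lam hF g)⁻¹ = 0 := by
  have h := su_preserves g wv (fv hF)
  rw [Bor_wv hF hg, Bor_fv hF hg, Bor_nu hF hg] at h
  simp only [herm_add_left, herm_add_right hF, herm_smul_left, herm_smul_right hF, herm_ww hF, herm_we hF,
    herm_ew hF, herm_ee hF, herm_ef hF, herm_wf hF, inv_pow, pow_q_q hF] at h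
  linear_combination h

/-! ### The radical -/

theorem heis_one_iff {a : Fin 1 → F} {s : F} : HeisCond q a s ↔ s + s ^ q + a 0 * a 0 ^ q = 0 := by
  rw [HeisCond, herm_one]

theorem rad_mem {a : Fin 1 → F} {s : F} (hs : HeisCond q a s) : rad hF a s hs ∈ Bor hF ∧
    lam hF (rad hF a s hs) = 1 ∧ gam hF (rad hF a s hs) = a 0 := by
  have he : suMat (rad hF a s hs) *ᵥ ev hF = ev hF := by
    rw [rad_apply hF, herm_ee hF, herm_ev_emb hF]; simp
  refine ⟨(mem_Bor_iff hF).2 ⟨1, by rw [he, one_smul]⟩, by rw [lam, he, herm_ef hF], ?_⟩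
  rw [gam, rad_apply hF, herm_fe hF, herm_fv_emb hF, one_smul, sub_zero, mul_one, emb_eq_smul]
  simp only [herm_add_left, herm_smul_left, herm_fw hF, herm_ww hF, herm_ew hF]
  ring

theorem eq_rad_of_lam_one {g : G3} (hg : g ∈ Bor hF) (h1 : lam hF g = 1) :
    ∃ (s : F) (hs : HeisCond q (fun _ : Fin 1 => gam hF g) s), g = rad hF (fun _ => gam hF g) s hs := by
  have hw := Bor_wv hF hg
  have hf := Bor_fv hF hg
  have hb := beta_eq hF hg
  rw [Bor_nu hF hg, h1, one_pow, div_one, one_smul] at hw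
  rw [h1, one_pow, inv_one, one_smul] at hf
  simp only [h1, one_pow, div_one, inv_one, one_mul, mul_one] at hb
  have hs : HeisCond q (fun _ : Fin 1 => gam hF g) (del hF g) := by
    rw [heis_one_iff hF]
    have h := su_preserves g (fv hF) (fv hF)
    rw [hf] at h
    simp only [herm_add_left, herm_add_right hF, herm_smul_left, herm_smul_right hF, herm_ww hF, herm_we hF,
      herm_ew hF, herm_ee hF, herm_ef hF, herm_fe hF, herm_wf hF, herm_fw hF, herm_ff hF] at h
    linear_combination h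
  refine ⟨_, hs, ext3 hF ?_ ?_ ?_⟩
  · rw [hw, rad_apply hF, herm_we hF, emb_eq_smul, herm_smul_right hF, herm_ww hF,
      show beta hF g = -(gam hF g ^ q) by linear_combination hb]
    module
  · rw [Bor_ev hF hg, h1, one_smul, rad_apply hF, herm_ee hF, herm_ev_emb hF]
    simp
  · rw [hf, rad_apply hF, herm_fe hF, herm_fv_emb hF, one_smul, sub_zero, mul_one, emb_eq_smul]
    module

/-- The radical. -/
noncomputable def Rad : Subgroup G3 := (lamHom hF).ker.map (Bor hF).subtype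

theorem mem_Rad_iff {g : G3} : g ∈ Rad hF ↔ g ∈ Bor hF ∧ lam hF g = 1 := by
  constructor
  · rintro ⟨x, hx, rfl⟩
    exact ⟨x.2, congrArg Units.val (MonoidHom.mem_ker.1 hx)⟩
  · rintro ⟨hg, h1⟩
    exact ⟨⟨g, hg⟩, MonoidHom.mem_ker.2 (Units.ext h1), rfl⟩

theorem Rad_le : Rad hF ≤ Bor (F := F) (q := q) hF := fun _ h => ((mem_Rad_iff hF).1 h).1

theorem zE_mem_Rad (z : Skew hF) : zE (k := 1) hF z ∈ Rad hF :=
  (mem_Rad_iff hF).2 ⟨(rad_mem hF (heis_of_skew hF z)).1, (rad_mem hF (heis_of_skew hF z)).2.1⟩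

theorem gam_zE (z : Skew hF) : gam hF (zE (k := 1) hF z) = 0 :=
  (rad_mem hF (heis_of_skew hF z)).2.2

theorem gam_mul {g g' : G3} (hg : g ∈ Rad hF) (hg' : g' ∈ Rad hF) : gam hF (g * g') = gam hF g + gam hF g' := by
  rw [mem_Rad_iff] at hg hg'
  have hf := Bor_fv hF hg'.1
  have hf0 := Bor_fv hF hg.1
  have hw := Bor_wv hF hg.1
  rw [Bor_nu hF hg.1, hg.2, one_pow, div_one, one_smul] at hw
  rw [hg'.2, one_pow, inv_one, one_smul] at hf
  rw [hg.2, one_pow, inv_one, one_smul] at hf0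
  rw [gam, suMat_mul, ← Matrix.mulVec_mulVec, hf]
  simp only [Matrix.mulVec_add, Matrix.mulVec_smul, Bor_ev hF hg.1, hw, hf0, hg.2, one_smul]
  simp only [herm_add_left, herm_smul_left, herm_ww hF, herm_ew hF, herm_fw hF]
  ring

theorem gam_conj {g r : G3} (hg : g ∈ Bor hF) (hr : r ∈ Rad hF) :
    g * r * g⁻¹ ∈ Rad hF ∧ gam hF (g * r * g⁻¹) = lam hF g ^ q * (lam hF g ^ q / lam hF g) * gam hF r := by
  rw [mem_Rad_iff] at hr
  set r' := g * r * g⁻¹ with hr'
  have hB : r' ∈ Bor hF := mul_mem (mul_mem hg hr.1) (inv_mem hg)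
  have h1 : lam hF r' = 1 := by
    have h := lam_mul hF hB hg
    rw [hr', inv_mul_cancel_right, lam_mul hF hg hr.1, hr.2, mul_one] at h
    exact mul_right_cancel₀ (lam_ne hF hg) (by rw [one_mul]; exact h.symm)
  refine ⟨(mem_Rad_iff hF).2 ⟨hB, h1⟩, ?_⟩
  have hR := hr.2
  have e : suMat r' *ᵥ (suMat g *ᵥ fv hF) = suMat g *ᵥ (suMat r *ᵥ fv hF) := by
    rw [Matrix.mulVec_mulVec, Matrix.mulVec_mulVec, ← suMat_mul, ← suMat_mul, hr', inv_mul_cancel_right]
  have hf' := Bor_fv hF hB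
  have hw' := Bor_wv hF hB
  rw [Bor_nu hF hB, h1, one_pow, div_one, one_smul] at hw'
  rw [h1, one_pow, inv_one, one_smul] at hf'
  have hf := Bor_fv hF hr.1
  rw [hR, one_pow, inv_one, one_smul] at hf
  rw [hf, Bor_fv hF hg] at e
  have hwg := Bor_wv hF hg
  rw [Bor_nu hF hg] at hwg
  simp only [Matrix.mulVec_add, Matrix.mulVec_smul, Bor_ev hF hB, hf', hw', Bor_ev hF hg, hwg,
    Bor_fv hF hg] at e
  have e' := congrArg (fun x => hh x (wv : V3)) e
  simp only [herm_add_left, herm_smul_left, herm_ww hF, herm_ew hF, herm_fw hF] at e'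
  have hl := lam_ne hF hg
  have hlq : lam hF g ^ q ≠ 0 := pow_ne_zero _ hl
  field_simp at e' ⊢
  linear_combination e'

/-- The radical has order `q ^ 3`. -/
theorem card_Rad : Nat.card (Rad (F := F) (q := q) hF) = q ^ 3 := by
  let f : (Fin 1 → F) × Skew hF → Rad (F := F) (q := q) hF := fun p =>
    ⟨zE hF p.2 * vE hF p.1, mul_mem (zE_mem_Rad hF p.2)
      ((mem_Rad_iff hF).2 ⟨(rad_mem hF (sec_spec hF p.1)).1, (rad_mem hF (sec_spec hF p.1)).2.1⟩)⟩
  have hf : Function.Bijective f := by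
    constructor
    · rintro ⟨a, z⟩ ⟨b, w⟩ h
      have h' : zE hF z * vE hF a = zE hF w * vE hF b := congrArg Subtype.val h
      have ha : ∀ c : Fin 1 → F, vE hF c ∈ Rad hF := fun c =>
        (mem_Rad_iff hF).2 ⟨(rad_mem hF (sec_spec hF c)).1, (rad_mem hF (sec_spec hF c)).2.1⟩
      have h2 := congrArg (gam hF) h'
      rw [gam_mul hF (zE_mem_Rad hF z) (ha a), gam_mul hF (zE_mem_Rad hF w) (ha b), gam_zE, gam_zE, zero_add,
        zero_add, vE, vE, (rad_mem hF (sec_spec hF a)).2.2, (rad_mem hF (sec_spec hF b)).2.2] at h2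
      have hab : a = b := funext fun i => by rw [Subsingleton.elim i 0]; exact h2
      subst hab
      have hz := mul_right_cancel h'
      exact Prod.ext rfl (zE_injective hF hz)
    · rintro ⟨g, hg⟩
      rw [mem_Rad_iff] at hg
      obtain ⟨s, hs, e⟩ := eq_rad_of_lam_one hF hg.1 hg.2
      obtain ⟨z, hz⟩ := rad_eq hF hs
      exact ⟨(_, z), Subtype.ext (hz.symm.trans e.symm)⟩
  rw [← Nat.card_congr (Equiv.ofBijective f hf), Nat.card_prod, Nat.card_fun, Nat.card_fin, hF,
    (card_fix_skew hF).2]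
  ring

theorem card_isoPt_three : Nat.card (IsoPt (1 + 1 + 1) F q) = q ^ 3 + 1 := by
  have h : _ = _ := odd_isoPt hF (n := 1 + 1 + 1) (by decide)
  have hq := two_le_q hF
  have h2 : 0 < q ^ 2 - 1 := by
    have : 2 ^ 2 ≤ q ^ 2 := Nat.pow_le_pow_left hq 2
    omega
  exact Nat.eq_of_mul_eq_mul_right h2 h

theorem card_G3 : Nat.card G3 = q ^ 3 * (q ^ 2 - 1) * (q ^ 3 + 1) := by
  have h := card_SU_mul hF (n := 1 + 1 + 1) (by norm_num)
  rw [card_GU hF] at h
  rw [Finset.prod_range_succ, Finset.prod_range_succ, Finset.prod_range_succ, Finset.prod_range_zero] at h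
  norm_num at h
  refine Nat.eq_of_mul_eq_mul_left (show 0 < q + 1 by omega) (h.trans ?_)
  ring

theorem card_Bor : Nat.card (Bor (F := F) (q := q) hF) = q ^ 3 * (q ^ 2 - 1) := by
  haveI := isPretransitive (n := 1 + 1 + 1) hF
  have h := (Bor (F := F) (q := q) hF).card_mul_index
  rw [Bor, MulAction.index_stabilizer_of_transitive, card_isoPt_three hF, card_G3 hF] at h
  exact Nat.eq_of_mul_eq_mul_right (Nat.succ_pos _) h

end CfsgLib.MinIdxU3
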