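import Cfsg.Agent.MinIdxU3.Point
import Mathlib.GroupTheory.Index
import Mathlib.GroupTheory.PGroup

/-!
The part of a subgroup of small index inside the stabiliser of an isotropic point.
-/

set_option autoImplicit false
set_option linter.style.haveILetI false
set_option linter.unusedSectionVars false

namespace CfsgLib.MinIdxU3

open Matrix CfsgLib.Unitary CfsgLib.Forms CfsgLib.MinIdxPSU

variable {F : Type*} [Field F] [Finite F] {q : ℕ} (hF : Nat.card F = q ^ 2)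

local notation "hh" => Cfsg.hermForm (1 + 1 + 1) F q
local notation "V3" => Fin (1 + 1 + 1) → F
local notation "G3" => G 1 F q

/-- A proper subgroup containing the centre, of index at most `q ^ 3`. -/
structure Small (H : Subgroup G3) : Prop where
  center_le : Subgroup.center G3 ≤ H
  ne_top : H ≠ ⊤
  index_le : H.index ≤ q ^ 3

omit [Finite F] in
/-- Conjugates of small subgroups are small. -/
theorem Small.conj {H : Subgroup G3} (hS : Small H) (g : G3) :
    Small (H.map (MulAut.conj g).toMonoidHom) := by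
  refine ⟨fun z hz => ⟨z, hS.center_le hz, ?_⟩, fun e => hS.ne_top ?_, ?_⟩
  · change g * z * g⁻¹ = z
    rw [Subgroup.mem_center_iff.1 hz g, mul_inv_cancel_right]
  · refine Subgroup.map_injective (f := (MulAut.conj g).toMonoidHom) (MulAut.conj g).injective ?_
    rw [e]
    exact (Subgroup.map_top_of_surjective _ (MulAut.conj g).surjective).symm
  · exact (Subgroup.index_map_equiv H (MulAut.conj g)).trans_le hS.index_le

omit [Finite F] in
theorem mem_conj_iff {H : Subgroup G3} (g x : G3) :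
    x ∈ H.map (MulAut.conj g).toMonoidHom ↔ g⁻¹ * x * g ∈ H := by
  constructor
  · rintro ⟨y, hy, rfl⟩
    change g⁻¹ * (g * y * g⁻¹) * g ∈ H
    simpa [mul_assoc] using hy
  · intro h
    exact ⟨_, h, show g * (g⁻¹ * x * g) * g⁻¹ = x by group⟩

include hF

theorem pos_q : 0 < q := lt_of_lt_of_le Nat.zero_lt_two (two_le_q hF)

theorem q_sq_sub_pos : 0 < q ^ 2 - 1 := by
  have : 2 ^ 2 ≤ q ^ 2 := Nat.pow_le_pow_left (two_le_q hF) 2
  omega

theorem finite_isoPt : Finite (IsoPt (1 + 1 + 1) F q) :=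
  Nat.finite_of_card_ne_zero (by rw [card_isoPt_three hF]; omega)

variable (H : Subgroup (G 1 F q))

/-- The eigenvalues on the point stabiliser. -/
noncomputable def lamRes : ↥(H ⊓ Bor hF) →* Fˣ := (lamHom hF).comp (Subgroup.inclusion inf_le_right)

/-- Their group. -/
noncomputable def Cim : Subgroup Fˣ := (lamRes hF H).range

/-- The unipotent part. -/
noncomputable def Qp : Subgroup G3 := H ⊓ Rad hF

theorem mem_Cim_iff {u : Fˣ} : u ∈ Cim hF H ↔ ∃ g ∈ H, g ∈ Bor hF ∧ lam hF g = (u : F) := by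
  constructor
  · rintro ⟨⟨g, hg⟩, rfl⟩
    exact ⟨g, hg.1, hg.2, rfl⟩
  · rintro ⟨g, hg, hgB, h⟩
    exact ⟨⟨g, hg, hgB⟩, Units.ext h⟩

theorem card_Cim_dvd : Nat.card (Cim hF H) ∣ q ^ 2 - 1 := by
  have h := Subgroup.card_subgroup_dvd_card (Cim hF H)
  rwa [Nat.card_units, hF] at h

theorem card_HB : Nat.card ↥(H ⊓ Bor hF) = Nat.card (Qp hF H) * Nat.card (Cim hF H) := by
  rw [← (lamRes hF H).ker.card_mul_index, Subgroup.index_ker]
  congr 1
  refine Nat.card_congr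
    { toFun := fun x => ⟨x.1.1, x.1.2.1, (mem_Rad_iff hF).2 ⟨x.1.2.2, congrArg Units.val (MonoidHom.mem_ker.1 x.2)⟩⟩
      invFun := fun x => ⟨⟨x.1, x.2.1, Rad_le hF x.2.2⟩, MonoidHom.mem_ker.2 (Units.ext ((mem_Rad_iff hF).1 x.2.2).2)⟩
      left_inv := fun x => rfl
      right_inv := fun x => rfl }

theorem le_card_HB_mul_index : q ^ 3 * (q ^ 2 - 1) ≤ Nat.card ↥(H ⊓ Bor hF) * H.index := by
  rw [← card_Bor hF]
  have h1 := ((H ⊓ Bor hF).subgroupOf (Bor hF)).card_mul_index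
  rw [Nat.card_congr (Subgroup.subgroupOfEquivOfLe (inf_le_right : H ⊓ Bor hF ≤ Bor hF)).toEquiv] at h1
  rw [← h1]
  refine Nat.mul_le_mul_left _ ?_
  change (H ⊓ Bor hF).relIndex (Bor hF) ≤ _
  rw [Subgroup.inf_relIndex_right, ← Subgroup.relIndex_top_right]
  exact Subgroup.relIndex_le_of_le_right le_top Subgroup.FiniteIndex.index_ne_zero

/-- The central part. -/
def Z0 : AddSubgroup (Skew hF) where
  carrier := {z | zE (k := 1) hF z ∈ H}
  zero_mem' := by
    change zE (k := 1) hF 0 ∈ H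
    rw [zE_zero]
    exact one_mem _
  add_mem' := fun {a b} ha hb => by
    change zE (k := 1) hF (a + b) ∈ H
    rw [zE_add]
    exact mul_mem ha hb
  neg_mem' := fun {a} ha => by
    change zE (k := 1) hF (-a) ∈ H
    have e : zE (k := 1) hF (-a) = (zE hF a)⁻¹ := by
      refine eq_inv_of_mul_eq_one_left ?_
      rw [← zE_add, neg_add_cancel, zE_zero]
    rw [e]
    exact inv_mem ha

theorem mem_Z0 {z : Skew hF} : z ∈ Z0 hF H ↔ zE (k := 1) hF z ∈ H := Iff.rfl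

/-- The translation parts. -/
noncomputable def abar : AddSubgroup F where
  carrier := {a | ∃ r ∈ Qp hF H, gam hF r = a}
  zero_mem' := ⟨zE hF 0, ⟨(mem_Z0 hF H).1 (zero_mem _), zE_mem_Rad hF _⟩, gam_zE hF _⟩
  add_mem' := fun {a b} ⟨r, hr, ha⟩ ⟨r', hr', hb⟩ =>
    ⟨r * r', mul_mem hr hr', by rw [gam_mul hF hr.2 hr'.2, ha, hb]⟩
  neg_mem' := fun {a} ⟨r, hr, ha⟩ => ⟨r⁻¹, inv_mem hr, by
    have h := gam_mul hF hr.2 (inv_mem hr.2)
    rw [mul_inv_cancel, ← zE_zero (k := 1) hF, gam_zE, ha] at h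
    linear_combination -h⟩

theorem mem_abar {a : F} : a ∈ abar hF H ↔ ∃ r ∈ Qp hF H, gam hF r = a := Iff.rfl

theorem eq_zE_of_gam {r : G3} (hr : r ∈ Rad hF) (h0 : gam hF r = 0) : ∃ z : Skew hF, r = zE hF z := by
  rw [mem_Rad_iff] at hr
  obtain ⟨s, hs, e⟩ := eq_rad_of_lam_one hF hr.1 hr.2
  have hs' : s ∈ Skew hF := by
    rw [mem_skew_iff]
    rw [heis_one_iff hF, h0] at hs
    simpa using hs
  refine ⟨⟨s, hs'⟩, e.trans (rad_congr hF ?_ rfl _)⟩
  funext i
  exact h0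

theorem card_Qp : Nat.card (Qp hF H) = Nat.card (Z0 hF H) * Nat.card (abar hF H) := by
  let φ : Qp hF H →* Multiplicative (abar hF H) :=
    { toFun := fun r => Multiplicative.ofAdd ⟨gam hF (r : G3), r.1, r.2, rfl⟩
      map_one' := by
        refine congrArg Multiplicative.ofAdd (Subtype.ext ?_)
        change gam hF (1 : G3) = 0
        rw [← zE_zero (k := 1) hF, gam_zE]
      map_mul' := fun r r' => congrArg Multiplicative.ofAdd (Subtype.ext (gam_mul hF r.2.2 r'.2.2)) }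
  have hsurj : Function.Surjective φ := by
    rintro ⟨a, r, hr, rfl⟩
    exact ⟨⟨r, hr⟩, rfl⟩
  rw [← φ.ker.card_mul_index, Subgroup.index_ker, MonoidHom.range_eq_top.2 hsurj, Subgroup.card_top,
    Nat.card_congr Multiplicative.toAdd]
  congr 1
  let f : Z0 hF H → φ.ker := fun z => ⟨⟨zE hF z.1, z.2, zE_mem_Rad hF _⟩, MonoidHom.mem_ker.2
    (congrArg Multiplicative.ofAdd (Subtype.ext (gam_zE hF _)))⟩
  refine (Nat.card_congr (Equiv.ofBijective f ⟨fun z w h => ?_, fun ⟨⟨r, hr⟩, hk⟩ => ?_⟩)).symm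
  · exact Subtype.ext (zE_injective hF (congrArg (fun x : φ.ker => (x : G3)) h))
  · have h0 : gam hF r = 0 := congrArg (fun x : Multiplicative (abar hF H) => (x.toAdd : F)) (MonoidHom.mem_ker.1 hk)
    obtain ⟨z, rfl⟩ := eq_zE_of_gam hF hr.2 h0
    exact ⟨⟨z, hr.1⟩, rfl⟩

variable {H}

theorem norm_mem {g : G3} (hg : g ∈ H) (hgB : g ∈ Bor hF) {z w : Skew hF}
    (hw : (w : F) = (z : F) * (lam hF g * lam hF g ^ q)) (hz : z ∈ Z0 hF H) : w ∈ Z0 hF H := by
  rw [mem_Z0] at hz ⊢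
  rw [← conj_zE hF (Bor_ev hF hgB) z w hw]
  exact mul_mem (mul_mem hg hz) (inv_mem hg)

theorem mu_mem {g : G3} (hg : g ∈ H) (hgB : g ∈ Bor hF) {a : F} (ha : a ∈ abar hF H) :
    lam hF g ^ q * (lam hF g ^ q / lam hF g) * a ∈ abar hF H := by
  obtain ⟨r, hr, rfl⟩ := ha
  obtain ⟨h1, h2⟩ := gam_conj hF hgB hr.2
  exact ⟨g * r * g⁻¹, ⟨H.mul_mem (H.mul_mem hg hr.1) (H.inv_mem hg), h1⟩, h2⟩

theorem exists_rad_of_mem {a : F} (ha : a ∈ abar hF H) :
    ∃ (s : F) (hs : HeisCond q (fun _ : Fin 1 => a) s), rad hF (fun _ => a) s hs ∈ H := by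
  obtain ⟨r, hr, rfl⟩ := ha
  obtain ⟨s, hs, e⟩ := eq_rad_of_lam_one hF ((mem_Rad_iff hF).1 hr.2).1 ((mem_Rad_iff hF).1 hr.2).2
  exact ⟨s, hs, e ▸ hr.1⟩

theorem comm_mem {a b : F} (ha : a ∈ abar hF H) (hb : b ∈ abar hF H) :
    ∃ z ∈ Z0 hF H, (z : F) = a * b ^ q - b * a ^ q := by
  obtain ⟨s, hs, hr⟩ := exists_rad_of_mem hF ha
  obtain ⟨t, ht, hr'⟩ := exists_rad_of_mem hF hb
  obtain ⟨z₁, e₁⟩ := rad_eq hF hs
  obtain ⟨z₂, e₂⟩ := rad_eq hF ht
  obtain ⟨zc, hzc, ec⟩ := vE_comm (k := 1) hF (fun _ => a) (fun _ => b)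
  refine ⟨zc, ?_, by rw [hzc, herm_one, herm_one]⟩
  rw [mem_Z0]
  have h := mul_mem (mul_mem hr hr') (inv_mem (mul_mem hr' hr))
  have key : rad hF (fun _ => a) s hs * rad hF (fun _ => b) t ht =
      zE hF zc * (rad hF (fun _ => b) t ht * rad hF (fun _ => a) s hs) := by
    rw [e₁, e₂]
    calc zE hF z₁ * vE hF (fun _ => a) * (zE hF z₂ * vE hF (fun _ => b))
        = zE hF z₁ * zE hF z₂ * (vE hF (fun _ => a) * vE hF (fun _ => b)) := by
          rw [mul_assoc, ← mul_assoc (vE hF _), ← zE_comm_vE hF z₂, mul_assoc (zE hF z₂), ← mul_assoc]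
      _ = zE hF z₁ * zE hF z₂ * (zE hF zc * (vE hF (fun _ => b) * vE hF (fun _ => a))) := by rw [ec]
      _ = zE hF zc * (zE hF z₂ * zE hF z₁) * (vE hF (fun _ => b) * vE hF (fun _ => a)) := by
          rw [← mul_assoc, ← zE_add, ← zE_add, ← zE_add, ← zE_add, add_comm zc, add_comm z₂ z₁]
      _ = _ := by
          rw [mul_assoc, mul_assoc (zE hF z₂) (zE hF z₁), ← mul_assoc (zE hF z₁) (vE hF _),
            zE_comm_vE hF z₁, mul_assoc (vE hF _) (zE hF z₁), ← mul_assoc (zE hF z₂)]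
  rwa [key, mul_inv_cancel_right] at h

theorem sq_mem (h2 : (2 : F) = 0) {a : F} (ha : a ∈ abar hF H) : ∃ z ∈ Z0 hF H, (z : F) = a * a ^ q := by
  obtain ⟨s, hs, hr⟩ := exists_rad_of_mem hF ha
  have h := mul_mem hr hr
  rw [rad_mul hF hs hs (heis_mul hF hs hs)] at h
  have e0 : ((fun _ : Fin 1 => a) + fun _ => a) = 0 := funext fun i => by
    change a + a = 0
    linear_combination a * h2
  have e1 : s + s - Cfsg.hermForm 1 F q (fun _ => a) (fun _ => a) = a * a ^ q := by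
    rw [herm_one]
    linear_combination (s - a * a ^ q) * h2
  rw [rad_congr hF e0 e1] at h
  refine ⟨⟨a * a ^ q, ?_⟩, h, rfl⟩
  rw [mem_skew_iff]
  have h3 : (a * a ^ q) ^ q = a * a ^ q := by rw [mul_pow, pow_q_q hF, mul_comm]
  linear_combination h3 + (a * a ^ q) * h2

/-- Non-trivial radical elements fix one point only. -/
theorem fix_unique {r : G3} (hr : r ∈ Rad hF) (hr1 : r ≠ 1) {P : IsoPt (1 + 1 + 1) F q} (hP : r • P = P) :
    P = P0 hF := by
  obtain ⟨v, hv, h0, rfl⟩ := exists_pt hF P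
  rw [P0, pt_eq_iff]
  by_cases hve : hh v (ev hF) = 0
  · exact ⟨_, (iso_perp_ev hF h0 hve).symm⟩
  exfalso
  rw [mem_Rad_iff] at hr
  obtain ⟨s, hs, e⟩ := eq_rad_of_lam_one hF hr.1 hr.2
  generalize ha : gam hF r = a at hs e
  rw [smul_pt, pt_eq_iff] at hP
  obtain ⟨c, hc⟩ := hP
  have hc' := hc.symm
  rw [e, rad_apply hF, emb_eq_smul] at hc'
  have h1 := congrArg (fun x => hh x (ev hF)) hc'
  simp only [herm_add_left, herm_smul_left, herm_we hF, herm_ee hF] at h1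
  have hc1 : c = 1 := mul_right_cancel₀ hve (by linear_combination -h1)
  subst hc1
  simp only [one_smul] at hc'
  rw [add_assoc v, add_eq_left] at hc'
  have hw := congrArg (fun x => hh x (wv : V3)) hc'
  simp only [herm_add_left, herm_smul_left, herm_ww hF, herm_ew hF, mul_zero, add_zero, mul_one] at hw
  have h00 : hh (0 : V3) wv = 0 := by simp [Cfsg.hermForm]
  rw [h00] at hw
  have ha0 : a = 0 := (mul_eq_zero.1 hw).resolve_left hve
  subst ha0
  have hf := congrArg (fun x => hh x (fv hF)) hc'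
  simp only [herm_add_left, herm_smul_left, herm_wf hF, herm_ef hF, mul_zero, zero_add, mul_one] at hf
  have h00' : hh (0 : V3) (fv hF) = 0 := by simp [Cfsg.hermForm]
  rw [h00', herm_smul_right hF, zero_pow (pos_q hF).ne', zero_mul, sub_zero] at hf
  have hs0 : s = 0 := (mul_eq_zero.1 hf).resolve_right hve
  subst hs0
  apply hr1
  rw [e]
  refine (rad_congr hF (show (fun _ : Fin 1 => (0 : F)) = 0 from rfl) rfl _).trans ?_
  exact zE_zero hF

section pgroup

variable {p : ℕ} [Fact p.Prime] [CharP F p]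

theorem exists_q_pow : ∃ e, 0 < e ∧ q = p ^ e := by
  haveI := Fintype.ofFinite F
  obtain ⟨n, -, hn⟩ := FiniteField.card F p
  rw [← Nat.card_eq_fintype_card, hF] at hn
  have hd : q ∣ p ^ (n : ℕ) := hn ▸ dvd_pow_self q two_ne_zero
  obtain ⟨e, -, he⟩ := (Nat.dvd_prime_pow Fact.out).1 hd
  refine ⟨e, Nat.pos_of_ne_zero fun e0 => ?_, he⟩
  have := two_le_q hF
  rw [he, e0] at this
  simp at this

theorem p_dvd_q : p ∣ q := by
  obtain ⟨e, he0, he⟩ := exists_q_pow (p := p) hF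
  exact he ▸ dvd_pow_self p he0.ne'

theorem not_dvd_sub : ¬ p ∣ q ^ 2 - 1 := fun h => by
  have h1 : p ∣ q ^ 2 := dvd_pow (p_dvd_q hF) two_ne_zero
  have := q_sq_sub_pos hF
  have h2 := Nat.dvd_sub h1 h
  rw [show q ^ 2 - (q ^ 2 - 1) = 1 by omega, Nat.dvd_one] at h2
  exact (Fact.out : p.Prime).one_lt.ne' h2

theorem isPGroup_Rad : IsPGroup p (Rad (F := F) (q := q) hF) := by
  obtain ⟨e, -, he⟩ := exists_q_pow (p := p) hF
  exact IsPGroup.of_card (n := e * 3) (by rw [card_Rad hF, he, ← pow_mul])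

theorem mem_Rad_of_pPow {g : G3} (hg : g ∈ Bor hF) {j : ℕ} (hj : g ^ p ^ j = 1) : g ∈ Rad hF := by
  refine (mem_Rad_iff hF).2 ⟨hg, ?_⟩
  have h1 : (lamHom hF ⟨g, hg⟩) ^ p ^ j = 1 := by
    rw [← map_pow, ← map_one (lamHom hF)]
    congr 1
    exact Subtype.ext hj
  have h2 : orderOf (lamHom hF ⟨g, hg⟩) ∣ q ^ 2 - 1 := by
    have h := orderOf_dvd_natCard (lamHom hF ⟨g, hg⟩)
    rwa [Nat.card_units, hF] at h
  obtain ⟨i, -, hi⟩ := (Nat.dvd_prime_pow Fact.out).1 (orderOf_dvd_of_pow_eq_one h1)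
  have h3 : orderOf (lamHom hF ⟨g, hg⟩) = 1 := by
    rcases i with _ | i
    · simpa using hi
    · exact absurd ((dvd_pow_self p (Nat.succ_ne_zero i)).trans (hi ▸ h2)) (not_dvd_sub hF)
  exact congrArg Units.val (orderOf_eq_one_iff.1 h3)

theorem exists_fix {Q : Subgroup G3} (hQ : IsPGroup p Q) : ∃ P : IsoPt (1 + 1 + 1) F q, ∀ g ∈ Q, g • P = P := by
  haveI := finite_isoPt hF
  obtain ⟨P, hP⟩ := hQ.nonempty_fixed_point_of_prime_not_dvd_card (IsoPt (1 + 1 + 1) F q) (by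
    rw [card_isoPt_three hF]
    intro h
    exact (Fact.out : p.Prime).one_lt.ne' (Nat.dvd_one.1
      ((Nat.dvd_add_right (dvd_pow (p_dvd_q hF) three_ne_zero)).1 h)))
  exact ⟨P, fun g hg => hP ⟨g, hg⟩⟩

end pgroup

end CfsgLib.MinIdxU3
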