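import Cfsg.Agent.MinIdxU3.Reduce

/-!
A small subgroup meets the radical.
-/

set_option autoImplicit false
set_option linter.style.haveILetI false
set_option linter.unusedSectionVars false

namespace CfsgLib.MinIdxU3

open Matrix CfsgLib.Unitary CfsgLib.Forms CfsgLib.MinIdxPSU CfsgLib.Dickson
open scoped Classical

variable {F : Type*} [Field F] [Finite F] {q : ℕ} (hF : Nat.card F = q ^ 2)
  {p : ℕ} [Fact p.Prime] [CharP F p]

local notation "hh" => Cfsg.hermForm (1 + 1 + 1) F q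
local notation "V3" => Fin (1 + 1 + 1) → F
local notation "G3" => G 1 F q

include hF p

theorem charP_Kc : CharP (Kc F) p := (RingHom.charP_iff (algebraMap F (Kc F)) (algebraMap F (Kc F)).injective p).1 inferInstance

theorem natCast_q : (q : F) = 0 := (CharP.cast_eq_zero_iff F p q).2 (p_dvd_q hF)

theorem not_dvd_card_of_trivial {H : Subgroup (G 1 F q)} (hS : Small H) (hQ : Nat.card (Qp hF H) = 1) :
    ¬ p ∣ Nat.card H := by
  intro hp
  obtain ⟨y, hy⟩ := exists_prime_orderOf_dvd_card' (G := H) p hp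
  have hyo : orderOf (y : G3) = p := (Subgroup.orderOf_coe y).trans hy
  have hpp : IsPGroup p (Subgroup.zpowers (y : G3)) :=
    IsPGroup.of_card (n := 1) (by rw [Nat.card_zpowers, hyo, pow_one])
  obtain ⟨P, hP⟩ := exists_fix hF hpp
  obtain ⟨h, hhH, rfl⟩ := transitive hF (p := p) hS P
  have hB : h⁻¹ * (y : G3) * h ∈ Bor hF := MulAction.mem_stabilizer_iff.2 (by
    rw [mul_smul, mul_smul, hP _ (Subgroup.mem_zpowers _), inv_smul_smul])
  have hH : h⁻¹ * (y : G3) * h ∈ H := H.mul_mem (H.mul_mem (H.inv_mem hhH) y.2) hhH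
  have ho : orderOf (h⁻¹ * (y : G3) * h) = p := by
    have e := (MulAut.conj h⁻¹).orderOf_eq (y : G3)
    rw [MulAut.conj_apply, inv_inv] at e
    rw [e, hyo]
  have hR := mem_Rad_of_pPow hF (p := p) hB (j := 1) (by rw [pow_one, ← ho, pow_orderOf_eq_one])
  have h1 := Subgroup.orderOf_dvd_natCard (Qp hF H) ⟨hH, hR⟩
  rw [ho, hQ, Nat.dvd_one] at h1
  exact (Fact.out : p.Prime).one_lt.ne' h1

theorem not_three {H : Subgroup (G 1 F q)} (hS : Small H) (hq : q = 3) (hQ : Nat.card (Qp hF H) = 1) : False := by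
  subst hq
  obtain ⟨x, C, a, n, -, -, -, -, hrC, hodd, -, hC, ha, hn, hcard, -, -⟩ :=
    sylow_data hF (p := p) hS (r := 7) (by norm_num) (by omega) (by norm_num) (by norm_num)
  have hH := card_eq hF (p := p) hS
  rw [hQ, (trivial_case hF hS hQ).1] at hH
  norm_num at hH hC ha
  rw [hH] at hcard
  have hC7 : C = 7 := by
    have hm := Nat.mem_divisors.2 ⟨hC, by norm_num⟩
    rw [show Nat.divisors 28 = ({1, 2, 4, 7, 14, 28} : Finset ℕ) by decide +kernel] at hm
    simp only [Finset.mem_insert, Finset.mem_singleton] at hm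
    omega
  subst hC7
  have ha6 : a ≤ 6 := Nat.le_of_dvd (by norm_num) ha
  have hn0 : n ∣ 224 := ⟨_, hcard.symm⟩
  have hn224 : n ≤ 224 := Nat.le_of_dvd (by norm_num) hn0
  interval_cases a <;> omega

/-- The radical part is not trivial. -/
theorem caseA {H : Subgroup (G 1 F q)} (hS : Small H) (hq : 3 ≤ q) (h5 : q ≠ 5) (hQ : Nat.card (Qp hF H) = 1) :
    False := by
  rcases Nat.lt_or_ge q 4 with h4 | h4
  · exact not_three hF (p := p) hS (by omega) hQ
  obtain ⟨γ, hγ⟩ : ∃ γ : Fˣ, orderOf γ = q ^ 2 - 1 := by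
    obtain ⟨γ, hγ⟩ := IsCyclic.exists_ofOrder_eq_natCard (α := Fˣ)
    exact ⟨γ, by rw [hγ, Nat.card_units, hF]⟩
  obtain ⟨hC, -, -⟩ := trivial_case hF hS hQ
  have htop : Cim hF H = ⊤ := Subgroup.eq_top_of_card_eq _ (by rw [hC, Nat.card_units, hF])
  obtain ⟨g, hgH, hgB, hgl⟩ := (mem_Cim_iff hF H).1 (show γ ∈ Cim hF H from htop ▸ Subgroup.mem_top _)
  have hsq : q ^ 2 - 1 = (q + 1) * (q - 1) := by rw [← Nat.sq_sub_sq, one_pow]
  set l : F := (γ : F) ^ (q - 1) with hl
  have hN : l * l ^ q = 1 := by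
    rw [hl, ← pow_mul, ← pow_add, show q - 1 + (q - 1) * q = q ^ 2 - 1 by rw [hsq]; ring, ← Units.val_pow_eq_pow_val,
      ← hγ, pow_orderOf_eq_one, Units.val_one]
  have hne : l ^ q / l ≠ l := by
    intro e
    have hl0 : l ≠ 0 := pow_ne_zero _ γ.ne_zero
    have h3 : l ^ 3 = 1 := by
      rw [div_eq_iff hl0] at e
      linear_combination hN - l * e
    rw [hl, ← pow_mul, ← Units.val_pow_eq_pow_val, Units.val_eq_one, ← orderOf_dvd_iff_pow_eq_one,
      hγ, hsq, mul_comm] at h3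
    have := Nat.le_of_dvd (by norm_num) (Nat.dvd_of_mul_dvd_mul_left (by omega) h3)
    omega
  obtain ⟨r, hrR, hrw⟩ := exists_rad_fix hF (g := g ^ (q - 1)) (pow_mem hgB _) (by
    rw [lam_pow hF hgB, hgl, ← hl]; exact hne)
  rw [lam_pow hF hgB, hgl, ← hl] at hrw
  set H' := H.map (MulAut.conj r).toMonoidHom with hH'
  have hS' : Small H' := hS.conj r
  have hQ' : Nat.card (Qp hF H') = 1 := by
    rw [Nat.card_eq_one_iff_unique]
    refine ⟨⟨fun a b => ?_⟩, ⟨1⟩⟩
    haveI := (Nat.card_eq_one_iff_unique.1 hQ).1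
    have key : ∀ a : Qp hF H', (a : G3) = 1 := fun a => by
      have hm : r⁻¹ * (a : G3) * r ∈ Qp hF H :=
        ⟨(mem_conj_iff r _).1 a.2.1, (Rad hF).mul_mem ((Rad hF).mul_mem ((Rad hF).inv_mem hrR) a.2.2) hrR⟩
      have h1 : r⁻¹ * (a : G3) * r = 1 := congrArg Subtype.val (Subsingleton.elim (⟨_, hm⟩ : Qp hF H) 1)
      calc (a : G3) = r * (r⁻¹ * (a : G3) * r) * r⁻¹ := by group
        _ = 1 := by rw [h1]; group
    exact Subtype.ext ((key a).trans (key b).symm)
  set g' := r * g * r⁻¹ with hg'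
  obtain ⟨hg'B, hg'l⟩ := conj_Rad_lam hF hgB hrR
  rw [← hg', hgl] at hg'l
  rw [← hg'] at hg'B
  have hg'H : g' ∈ H' := ⟨g, hgH, rfl⟩
  set k := g' ^ (q - 1) with hk
  have hkB : k ∈ Bor hF := pow_mem hg'B _
  have hkl : lam hF k = l := by rw [hk, lam_pow hF hg'B, hg'l]
  have hkH : k ∈ H' := pow_mem hg'H _
  have hkw : suMat k *ᵥ wv = (l ^ q / l) • wv := by
    rw [hk, hg', conj_pow]; exact hrw
  have hq1 : ((q + 1 : ℕ) : F) ≠ 0 := by
    rw [Nat.cast_add, natCast_q hF (p := p), Nat.cast_one, zero_add]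
    exact one_ne_zero
  have hk1 : k ^ (q + 1) = 1 := by
    refine lam_inj hF hQ' (pow_mem hkH _) (pow_mem hkB _) (one_mem _) (one_mem _) ?_
    rw [lam_pow hF hkB, hkl, lam_one, hl, ← pow_mul, mul_comm, ← hsq, ← Units.val_pow_eq_pow_val, ← hγ,
      pow_orderOf_eq_one, Units.val_one]
  have hplane : ∀ y : V3, hh y wv = 0 → suMat k *ᵥ y = l • y := fun y hy =>
    hkl ▸ plane_of_pow hF hkB (by rw [hkl]; exact hN) hkw hq1 hk1 hy
  haveI := finite_Lim hF H'
  haveI := charP_Kc hF (p := p)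
  have hp : ¬ p ∣ Nat.card (Lim hF H') := fun h => not_dvd_card_of_trivial hF (p := p) hS' hQ'
    (h.trans ((card_Lim_dvd hF H').trans (Subgroup.card_dvd_of_le inf_le_left)))
  have hwit : ∀ o : Option (Skew hF), ∃ lm ∈ Lim hF H', lm • chordCoord hF o = chordCoord hF o ∧
      ∀ j : ℕ, lm ^ j = 1 → (q - 1) ∣ j := by
    intro o
    obtain ⟨h, hhH, hP⟩ := transitive hF (p := p) hS' (chordPt hF o)
    have hk' : h⁻¹ * k * h ∈ Bor hF := MulAction.mem_stabilizer_iff.2 (by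
      rw [mul_smul, mul_smul, hP, chord_fixed hF hplane, ← hP, inv_smul_smul])
    have hkk : h * (h⁻¹ * k * h) * h⁻¹ = k := by group
    have hlk : lam hF (h⁻¹ * k * h) = l := by
      have h1 := eigen_conj hF hk' hP
      rw [hkk, hplane _ (chordVec_spec hF o).2.2] at h1
      exact (smul_left_injective F (chordVec_spec hF o).1 h1).symm
    have heq : h⁻¹ * k * h = k := lam_inj hF hQ' (H'.mul_mem (H'.mul_mem (H'.inv_mem hhH) hkH) hhH) hk' hkH hkB
      (hlk.trans hkl.symm)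
    have hcomm : h * g' * h⁻¹ * k = k * (h * g' * h⁻¹) := by
      have e : h * k * h⁻¹ = k := (congrArg (fun z => h * z * h⁻¹) heq).symm.trans hkk
      have e2 : g' * k = k * g' := (Commute.self_pow g' (q - 1)).eq
      calc h * g' * h⁻¹ * k = h * g' * h⁻¹ * (h * k * h⁻¹) := by rw [e]
        _ = h * (g' * k) * h⁻¹ := by group
        _ = h * (k * g') * h⁻¹ := by rw [e2]
        _ = h * k * h⁻¹ * (h * g' * h⁻¹) := by group
        _ = k * (h * g' * h⁻¹) := by rw [e]
    have hL : h * g' * h⁻¹ ∈ L0 F q := mem_L0_of_commute hF hkB (by rw [hkl]; exact hN) (by rw [hkl]; exact hkw)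
      (by rw [hkl]; exact hne) hcomm
    obtain ⟨lm, hlm, hfix, hord⟩ := mem_Lim_of_fix hF (H := H') (H'.mul_mem (H'.mul_mem hhH hg'H) (H'.inv_mem hhH))
      hL o (eigen_conj hF hg'B hP)
    refine ⟨lm, hlm, hfix, fun j hj => ?_⟩
    have h2 := hord j hj
    rwa [hg'l, ← pow_succ', ← Units.val_pow_eq_pow_val, orderOf_units,
      orderOf_pow_of_dvd (by omega) (by rw [hγ, hsq]; exact dvd_mul_right _ _), hγ, hsq,
      Nat.mul_div_cancel_left _ (by omega)] at h2
  have hcard : Nat.card (Option (Skew hF)) = q + 1 := card_chord hF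
  have hres := tame_chord (Lim hF H') (unipotents_empty p _ hp) (chordCoord hF) (chordCoord_injective hF)
    (by omega) (by omega : 3 ≤ q - 1) hwit
  have hpq := p_dvd_q (p := p) hF
  have h23 : ∀ N, (2 ∣ N ∧ 3 ∣ N) → Nat.card (Lim hF H') = N → p ≠ 2 ∧ p ≠ 3 := fun N hN hL =>
    ⟨fun e => hp (by rw [e, hL]; exact hN.1), fun e => hp (by rw [e, hL]; exact hN.2)⟩
  have hpp : p.Prime := Fact.out
  have hle : ∀ d, 0 < d → q - 1 ∣ d → q ≤ d + 1 := fun d hd h => by have := Nat.le_of_dvd hd h; omega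
  have hsmall : q ≤ 6 ∧ p ≠ 2 ∧ p ≠ 3 := by
    rcases hres with ⟨hN, h⟩ | ⟨hN, h | ⟨h, -⟩⟩ | ⟨hN, h | h⟩ <;>
      exact ⟨(hle _ (by norm_num) h).trans (by norm_num), h23 _ (by norm_num) hN⟩
  obtain ⟨e, he0, he⟩ := exists_q_pow (p := p) hF
  have h5p : 5 ≤ p := by
    by_contra hlt
    have h2 := hpp.two_le
    interval_cases p
    · exact hsmall.2.1 rfl
    · exact hsmall.2.2 rfl
    · norm_num at hpp
  rcases Nat.lt_or_ge e 2 with h1 | h1
  · obtain rfl : e = 1 := by omega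
    rw [pow_one] at he
    obtain rfl : q = 6 := by omega
    subst he
    norm_num at hpp
  · have := Nat.pow_le_pow_left h5p e
    have := Nat.pow_le_pow_right (show 0 < 5 by norm_num) h1
    omega

end CfsgLib.MinIdxU3
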