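import Mathlib.GroupTheory.Transfer
import Mathlib.GroupTheory.SpecificGroups.Cyclic
import Mathlib.Tactic.NormNum
import Mathlib.Tactic.NormNum.Prime

/-!
A group of order `439560` with self-centralising Sylow normaliser at `37` and no element of order `185`.
-/

set_option autoImplicit false
set_option linter.style.haveILetI false

namespace CfsgLib.MinIdxU3

open Subgroup

theorem factorization_one {n p : ℕ} (hp : p.Prime) (hn : n ≠ 0) (h : p ∣ n) (h2 : ¬ p ^ 2 ∣ n) :
    n.factorization p = 1 := by
  refine le_antisymm ?_ ((hp.dvd_iff_one_le_factorization hn).1 h)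
  by_contra hlt
  exact h2 ((hp.pow_dvd_iff_le_factorization hn).2 (by omega))

theorem eleven_false {G : Type*} [Group G] [Finite G] (hG : Nat.card G = 439560) {x : G} (hx : orderOf x = 37)
    (hC : ∀ y : G, y * x * y⁻¹ ∈ zpowers x → y * x = x * y) (h5 : ¬ 5 ∣ Nat.card (centralizer ({x} : Set G))) :
    False := by
  haveI : Fact (Nat.Prime 37) := ⟨by norm_num⟩
  haveI : Fact (Nat.Prime 5) := ⟨by norm_num⟩
  have hfac : (Nat.card G).factorization 37 = 1 := by
    rw [hG]
    exact factorization_one (by norm_num) (by norm_num) (by norm_num) (by norm_num)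
  let P : Sylow 37 G := Sylow.ofCard (zpowers x) (by rw [hfac, pow_one, Nat.card_zpowers, hx])
  have hP : normalizer (P : Set G) ≤ centralizer (P : Set G) := by
    intro y hy
    have hyx : y * x = x * y := hC y ((mem_normalizer_iff.1 hy x).1 (mem_zpowers x))
    rw [mem_centralizer_iff]
    rintro _ ⟨k, rfl⟩
    exact (Commute.zpow_left (show Commute x y from hyx.symm) k).eq
  set K := (MonoidHom.transferSylow P hP).ker with hK
  have hcomp := MonoidHom.ker_transferSylow_isComplement' P hP
  have hKi : K.index = 37 := by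
    rw [hK, hcomp.symm.index_eq_card]
    change Nat.card (zpowers x) = 37
    rw [Nat.card_zpowers, hx]
  have hKc : Nat.card K = 11880 := by
    have h := K.card_mul_index
    rw [hKi, hG] at h
    omega
  obtain ⟨T⟩ : Nonempty (Sylow 5 K) := inferInstance
  have hT : Nat.card T = 5 := by
    rw [T.card_eq_multiplicity, hKc,
      factorization_one (n := 11880) (p := 5) (by norm_num) (by norm_num) (by norm_num) (by norm_num), pow_one]
  set N : Subgroup G := normalizer ((T.map K.subtype : Subgroup G) : Set G) with hN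
  have h37 : 37 ∣ Nat.card N := by
    rw [← hKi, ← relIndex_top_right, ← T.normalizer_sup_eq_top, sup_comm]
    have := relIndex_sup_right (H := N) (K := K)
    rw [sup_comm] at this
    rw [← hN]
    first
      | exact this ▸ (K.subgroupOf N).index_dvd_card
      | exact (relIndex_sup_left (K := N) (H := K)) ▸ (K.subgroupOf N).index_dvd_card
  obtain ⟨y, hy⟩ := exists_prime_orderOf_dvd_card' (G := N) 37 h37
  have hyo : orderOf (y : G) = 37 := (Subgroup.orderOf_coe y).trans hy
  have hTc : Nat.card (T.map K.subtype) = 5 := by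
    rw [card_map_of_injective K.subtype_injective]; exact hT
  haveI : IsCyclic (T.map K.subtype) := isCyclic_of_prime_card hTc
  set σ := (T.map K.subtype).normalizerMonoidHom y with hσ
  have hσ1 : σ = 1 := by
    rw [← orderOf_eq_one_iff]
    have h1 : orderOf σ ∣ 37 := hy ▸ orderOf_map_dvd _ y
    have h2 : orderOf σ ∣ 4 := by
      have := orderOf_dvd_natCard σ
      rwa [IsCyclic.card_mulAut, hTc, Nat.totient_prime (by norm_num)] at this
    exact Nat.dvd_one.1 (Nat.dvd_gcd h1 h2)
  obtain ⟨z, hz⟩ := exists_prime_orderOf_dvd_card' (G := T.map K.subtype) 5 (dvd_of_eq hTc.symm)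
  have hzy : (y : G) * z = z * y := by
    have h := congrArg (fun w : MulAut (T.map K.subtype) => (w z : G)) hσ1
    simp only [MulAut.one_apply] at h
    change (y : G) * z * (y : G)⁻¹ = z at h
    rwa [mul_inv_eq_iff_eq_mul] at h
  let Q : Sylow 37 G := Sylow.ofCard (zpowers (y : G)) (by rw [hfac, pow_one, Nat.card_zpowers, hyo])
  obtain ⟨g, hg⟩ := MulAction.exists_smul_eq G Q P
  have hmem : x ∈ (zpowers (y : G)).map (MulAut.conj g).toMonoidHom := by
    have h : x ∈ (P : Subgroup G) := mem_zpowers x
    rw [← hg, Sylow.coe_subgroup_smul] at h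
    exact h
  obtain ⟨w, ⟨k, rfl⟩, hw⟩ := hmem
  refine h5 ?_
  have hz5 : orderOf (g * (z : G) * g⁻¹) = 5 := by
    have e := (MulAut.conj g).orderOf_eq (z : G)
    rw [MulAut.conj_apply] at e
    rw [e, Subgroup.orderOf_coe, hz]
  rw [← hz5]
  refine Subgroup.orderOf_dvd_natCard _ (mem_centralizer_singleton_iff.2 ?_)
  rw [← hw]
  have hc : (z : G) * (y : G) ^ k = (y : G) ^ k * z := (Commute.zpow_right (show Commute (z : G) y from hzy.symm) k).eq
  change g * (z : G) * g⁻¹ * (g * (y : G) ^ k * g⁻¹) = g * (y : G) ^ k * g⁻¹ * (g * (z : G) * g⁻¹)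
  calc g * (z : G) * g⁻¹ * (g * (y : G) ^ k * g⁻¹) = g * ((z : G) * (y : G) ^ k) * g⁻¹ := by group
    _ = g * ((y : G) ^ k * z) * g⁻¹ := by rw [hc]
    _ = _ := by group

end CfsgLib.MinIdxU3
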