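import Cfsg.Agent.MinIdxU3.CaseA
import Cfsg.Agent.MinIdxU3.Eleven

/-!
A small subgroup contains root elements.
-/

set_option autoImplicit false
set_option linter.style.haveILetI false
set_option linter.unusedSectionVars false

namespace CfsgLib.MinIdxU3

open Matrix CfsgLib.Unitary CfsgLib.Forms CfsgLib.MinIdxPSU CfsgLib.Dickson
open scoped Classical

variable {F : Type*} [Field F] [Finite F] {q : ℕ} (hF : Nat.card F = q ^ 2)
  {p : ℕ} [Fact p.Prime] [CharP F p]

local notation "hh" => Cfsg.hermForm (1 + 1 + 1) F q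
local notation "V3" => Fin (1 + 1 + 1) → F
local notation "G3" => G 1 F q

include hF

theorem gam_one : gam hF (1 : G3) = 0 := by rw [← zE_zero (k := 1) hF, gam_zE]

theorem eq_one_of_gam {H : Subgroup (G 1 F q)} (hZ : Z0 hF H = ⊥) {a : G3} (ha : a ∈ Qp hF H)
    (h0 : gam hF a = 0) : a = 1 := by
  obtain ⟨z, rfl⟩ := eq_zE_of_gam hF ha.2 h0
  have hz : z ∈ Z0 hF H := ha.1
  rw [hZ, AddSubgroup.mem_bot] at hz
  rw [hz, zE_zero]

theorem gam_inj {H : Subgroup (G 1 F q)} (hZ : Z0 hF H = ⊥) {a b : G3} (ha : a ∈ Qp hF H) (hb : b ∈ Qp hF H)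
    (he : gam hF a = gam hF b) : a = b := by
  refine mul_inv_eq_one.1 (eq_one_of_gam hF hZ ((Qp hF H).mul_mem ha ((Qp hF H).inv_mem hb)) ?_)
  have h := gam_mul hF hb.2 ((Rad hF).inv_mem hb.2)
  rw [mul_inv_cancel, gam_one] at h
  rw [gam_mul hF ha.2 ((Rad hF).inv_mem hb.2), he, ← h]

include p

/-- The numerical consequences. -/
theorem b0_data {H : Subgroup (G 1 F q)} (hS : Small H) (hq : 3 ≤ q) (h5 : q ≠ 5) (hZ : Z0 hF H = ⊥)
    (hQ : Nat.card (Qp hF H) ≠ 1) :
    Odd q ∧ 5 ≤ p ∧ 11 ≤ q ∧ q % 3 = 2 ∧ Nat.card (Qp hF H) = q ∧ ∃ j, (j = 1 ∨ j = 2) ∧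
      Nat.card (Cim hF H) * j = 3 * (q - 1) ∧ 2 ∣ Nat.card (Cim hF H) := by
  have hQa : Nat.card (Qp hF H) = Nat.card (abar hF H) := by rw [card_Qp hF H, hZ, AddSubgroup.card_bot, one_mul]
  haveI : Nontrivial (abar hF H) := Finite.one_lt_card_iff_nontrivial.1 (by
    have h0 : 0 < Nat.card (Qp hF H) := Nat.card_pos
    omega)
  obtain ⟨⟨a₀, ha₀⟩, hne⟩ := exists_ne (0 : abar hF H)
  have ha0 : a₀ ≠ 0 := fun e => hne (Subtype.ext e)
  have hpp : p.Prime := Fact.out
  have hp2 : p ≠ 2 := by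
    rintro rfl
    obtain ⟨z, hz, hzv⟩ := sq_mem hF (show (2 : F) = 0 by exact_mod_cast CharP.cast_eq_zero F 2) ha₀
    rw [hZ, AddSubgroup.mem_bot] at hz
    rw [hz, ZeroMemClass.coe_zero] at hzv
    exact mul_ne_zero ha0 (pow_ne_zero _ ha0) hzv.symm
  have hreal : ∀ b ∈ abar hF H, (b / a₀) ^ q = b / a₀ := by
    intro b hb
    obtain ⟨z, hz, hzv⟩ := comm_mem hF ha₀ hb
    rw [hZ, AddSubgroup.mem_bot] at hz
    rw [hz, ZeroMemClass.coe_zero] at hzv
    rw [div_pow]
    field_simp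
    linear_combination -hzv
  have hQle : Nat.card (Qp hF H) ≤ q := hQa ▸ card_abar_sq_le hF (fun e => by
    have h := congrArg (fun A : AddSubgroup (Skew hF) => Nat.card A) (hZ.symm.trans e)
    simp only [AddSubgroup.card_bot, AddSubgroup.card_top, (card_fix_skew hF).2] at h
    omega)
  set c := Nat.card (Cim hF H) with hc
  obtain ⟨u, hu⟩ := IsCyclic.exists_ofOrder_eq_natCard (α := Cim hF H)
  obtain ⟨g, hgH, hgB, hgl⟩ := (mem_Cim_iff hF H).1 u.2
  have hq2 := two_le_q hF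
  have hdiv : c ∣ (2 * q - 1) * (q - 1) := by
    rw [hc, ← hu, orderOf_dvd_iff_pow_eq_one]
    refine Subtype.ext (Units.ext ?_)
    simp only [SubmonoidClass.coe_pow, Units.val_pow_eq_pow_val, OneMemClass.coe_one, Units.val_one, ← hgl]
    have hl := lam_ne hF hgB
    have hmu : lam hF g ^ q * (lam hF g ^ q / lam hF g) = lam hF g ^ (2 * q - 1) := by
      rw [mul_div_assoc', div_eq_iff hl, ← pow_succ, ← pow_add]
      congr 1
      omega
    have h := hreal _ (mu_mem hF hgH hgB ha₀)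
    rw [hmu, mul_div_assoc, div_self ha0, mul_one] at h
    rw [pow_mul]
    refine mul_right_cancel₀ (pow_ne_zero (2 * q - 1) hl) ?_
    rw [one_mul, ← pow_succ, show q - 1 + 1 = q by omega, h]
  have hsq : q ^ 2 - 1 = (q + 1) * (q - 1) := by rw [← Nat.sq_sub_sq, one_pow]
  have hg3 : Nat.gcd (q + 1) (2 * q - 1) ∣ 3 := by
    have h := Nat.dvd_sub ((Nat.gcd_dvd_left (q + 1) (2 * q - 1)).mul_left 2) (Nat.gcd_dvd_right (q + 1) (2 * q - 1))
    rwa [show 2 * (q + 1) - (2 * q - 1) = 3 by omega] at h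
  have hcdiv : c ∣ Nat.gcd (q + 1) (2 * q - 1) * (q - 1) := by
    rw [← Nat.gcd_mul_right]
    exact Nat.dvd_gcd (hsq ▸ card_Cim_dvd hF H) hdiv
  have hsub := sub_le hF (p := p) hS
  rw [← hc, hsq] at hsub
  have h3q : (q + 1) % 3 = 0 := by
    by_contra h3
    rcases (Nat.dvd_prime Nat.prime_three).1 hg3 with h | h
    · rw [h, one_mul] at hcdiv
      have h1 := hsub.trans (Nat.mul_le_mul hQle (Nat.le_of_dvd (by omega) hcdiv))
      have := Nat.le_of_mul_le_mul_right h1 (by omega)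
      omega
    · exact h3 (Nat.mod_eq_zero_of_dvd (h ▸ Nat.gcd_dvd_left _ _))
  have hc3 : c ∣ 3 * (q - 1) := hcdiv.trans (Nat.mul_dvd_mul_right hg3 _)
  obtain ⟨e, he0, he⟩ := exists_q_pow (p := p) hF
  have hp5 : 5 ≤ p := by
    by_contra hlt
    have h2 := hpp.two_le
    interval_cases p
    · exact hp2 rfl
    · have := Nat.mod_eq_zero_of_dvd (p_dvd_q (p := 3) hF); omega
    · norm_num at hpp
  have hqodd : Odd q := he ▸ (hpp.odd_of_ne_two hp2).pow
  have hQp : IsPGroup p (Qp hF H) := (isPGroup_Rad hF).to_le inf_le_right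
  obtain ⟨i, hi⟩ := IsPGroup.iff_card.1 hQp
  have hcle : c ≤ 3 * (q - 1) := Nat.le_of_dvd (by omega) hc3
  have hie : i = e := by
    have hile : i ≤ e := (Nat.pow_le_pow_iff_right hpp.one_lt).1 (hi ▸ he ▸ hQle)
    by_contra hne'
    have hlt : p ^ i * p ≤ q := by
      rw [← pow_succ, he]
      exact Nat.pow_le_pow_right hpp.pos (by omega)
    rw [hi] at hsub
    have h1 : (q + 1) * p ≤ 3 * q := by
      refine Nat.le_of_mul_le_mul_right ?_ (show 0 < q - 1 by omega)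
      calc (q + 1) * p * (q - 1) = (q + 1) * (q - 1) * p := by ring
        _ ≤ p ^ i * c * p := Nat.mul_le_mul_right _ hsub
        _ = p ^ i * p * c := by ring
        _ ≤ q * (3 * (q - 1)) := Nat.mul_le_mul hlt hcle
        _ = 3 * q * (q - 1) := by ring
    nlinarith
  have hQq : Nat.card (Qp hF H) = q := by rw [hi, hie, he]
  rw [hQq] at hsub
  have hcq : q ≤ c := by
    by_contra hlt
    have h2 : (q + 1) * (q - 1) ≤ q * (q - 1) := hsub.trans (Nat.mul_le_mul_left _ (by omega))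
    have := Nat.le_of_mul_le_mul_right h2 (by omega)
    omega
  obtain ⟨j, hj⟩ := hc3
  have hj0 : j ≠ 0 := fun h => by rw [h, mul_zero] at hj; omega
  have hj3 : j < 3 := by
    by_contra h3
    have := Nat.mul_le_mul_left c (not_lt.1 h3)
    omega
  have heven : 2 ∣ c := by
    haveI : Fact (Nat.Prime 2) := ⟨Nat.prime_two⟩
    have h2H : 2 ∣ Nat.card H := by
      rw [card_eq hF (p := p) hS]
      exact Dvd.dvd.mul_right (even_iff_two_dvd.1 (hqodd.pow.add_one)) _
    obtain ⟨y, hy⟩ := exists_prime_orderOf_dvd_card' (G := H) 2 h2H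
    have hyo : orderOf (y : G3) = 2 := (Subgroup.orderOf_coe y).trans hy
    obtain ⟨P, hP⟩ := invol_fix hF (p := p) (y := (y : G3)) (by rw [← pow_two, ← hyo, pow_orderOf_eq_one])
    obtain ⟨h, hhH, rfl⟩ := transitive hF (p := p) hS P
    have hm : h⁻¹ * (y : G3) * h ∈ H ⊓ Bor hF := ⟨H.mul_mem (H.mul_mem (H.inv_mem hhH) y.2) hhH,
      MulAction.mem_stabilizer_iff.2 (by rw [mul_smul, mul_smul, hP, inv_smul_smul])⟩
    have hd := Subgroup.orderOf_dvd_natCard _ hm
    have ho : orderOf (h⁻¹ * (y : G3) * h) = 2 := by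
      have e := (MulAut.conj h⁻¹).orderOf_eq (y : G3)
      rw [MulAut.conj_apply, inv_inv] at e
      rw [e, hyo]
    rw [ho, card_HB hF H, hQq, ← hc] at hd
    exact (Nat.prime_two.dvd_mul.1 hd).resolve_left hqodd.not_two_dvd_nat
  refine ⟨hqodd, hp5, ?_, by omega, hQq, j, by omega, hj.symm, heven⟩
  have := Nat.odd_iff.1 hqodd
  omega

/-- The core, with an involution diagonal. -/
theorem b0_core {H : Subgroup (G 1 F q)} (hS : Small H) (hq : 3 ≤ q) (h5 : q ≠ 5) (hZ : Z0 hF H = ⊥)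
    (hQ : Nat.card (Qp hF H) ≠ 1) {t : G3} (htH : t ∈ H) (htB : t ∈ Bor hF) (ht2 : t * t = 1)
    (htl : lam hF t = -1) (htw : suMat t *ᵥ wv = wv) : False := by
  obtain ⟨hqodd, hp5, hq11, hq3, hQq, j, hj, hcj, hceven⟩ := b0_data hF (p := p) hS hq h5 hZ hQ
  set c := Nat.card (Cim hF H) with hc
  have hpp : p.Prime := Fact.out
  have h2F : (2 : F) ≠ 0 := by
    intro h
    have := (CharP.cast_eq_zero_iff F p 2).1 (by exact_mod_cast h)
    have := Nat.le_of_dvd two_pos this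
    omega
  have hm1 : (-1 : F) ^ q = -1 := hqodd.neg_one_pow
  have hN : lam hF t * lam hF t ^ q = 1 := by rw [htl, hm1]; ring
  have hν : lam hF t ^ q / lam hF t = 1 := by rw [htl, hm1]; simp
  have hne : lam hF t ^ q / lam hF t ≠ lam hF t := by
    rw [hν, htl]
    intro h
    exact h2F (by linear_combination h)
  have hplane : ∀ y : V3, hh y wv = 0 → suMat t *ᵥ y = (-1 : F) • y := fun y hy => htl ▸
    plane_of_pow hF htB hN (ν := 1) (by rw [one_smul]; exact htw) (m := 2) (by exact_mod_cast h2F)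
      (by rw [pow_two]; exact ht2) hy
  obtain ⟨u₀, hu₀⟩ := IsCyclic.exists_ofOrder_eq_natCard (α := Cim hF H)
  set γ : Fˣ := (u₀ : Fˣ) with hγ
  have hγo : orderOf γ = c := by rw [hγ, Subgroup.orderOf_coe, hu₀]
  obtain ⟨g, hgH, hgB, hgl⟩ := (mem_Cim_iff hF H).1 u₀.2
  -- every involution of the stabiliser centralises a generator of the torus
  have hgen : ∀ s ∈ H, s ∈ Bor hF → s * s = 1 → lam hF s = -1 →
      ∃ x ∈ H, x ∈ Bor hF ∧ lam hF x = (γ : F) ∧ x * s = s * x := by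
    intro s hsH hsB hs2 hsl
    have hsi : s⁻¹ = s := inv_eq_of_mul_eq_one_right hs2
    set u := s * g * s⁻¹ * g⁻¹ with hu
    have hm : s * g * s⁻¹ ∈ Bor hF := mul_mem (mul_mem hsB hgB) (inv_mem hsB)
    have hlm : lam hF (s * g * s⁻¹) = lam hF g := by
      have h := lam_mul hF hm hsB
      rw [inv_mul_cancel_right, lam_mul hF hsB hgB] at h
      exact mul_right_cancel₀ (lam_ne hF hsB) (h.symm.trans (mul_comm _ _))
    have huQ : u ∈ Qp hF H := by
      refine ⟨H.mul_mem (H.mul_mem (H.mul_mem hsH hgH) (H.inv_mem hsH)) (H.inv_mem hgH),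
        (mem_Rad_iff hF).2 ⟨mul_mem hm (inv_mem hgB), ?_⟩⟩
      have h := lam_mul hF (mul_mem hm (inv_mem hgB)) hgB
      rw [inv_mul_cancel_right, hlm] at h
      exact mul_right_cancel₀ (lam_ne hF hgB) (by rw [one_mul]; exact h.symm)
    set w := u ^ ((q + 1) / 2) with hw
    have hwQ : w ∈ Qp hF H := (Qp hF H).pow_mem huQ _
    have hww : w * w = u := by
      have huq : u ^ q = 1 := by
        have h := Subgroup.orderOf_dvd_natCard _ huQ
        rw [hQq] at h
        exact orderOf_dvd_iff_pow_eq_one.1 h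
      rw [hw, ← pow_add, show (q + 1) / 2 + (q + 1) / 2 = q + 1 by
        have := Nat.odd_iff.1 hqodd; omega, pow_succ, huq, one_mul]
    have hinv : s * w * s⁻¹ = w⁻¹ := by
      have h1 := gam_conj hF hsB hwQ.2
      have hsw : s * w * s⁻¹ ∈ Qp hF H := ⟨H.mul_mem (H.mul_mem hsH hwQ.1) (H.inv_mem hsH), h1.1⟩
      refine gam_inj hF hZ hsw ((Qp hF H).inv_mem hwQ) ?_
      have h2 := gam_mul hF hwQ.2 ((Rad hF).inv_mem hwQ.2)
      rw [mul_inv_cancel, gam_one] at h2
      rw [h1.2, hsl, hm1]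
      field_simp
      linear_combination h2
    refine ⟨w * g, H.mul_mem hwQ.1 hgH, mul_mem (Rad_le hF hwQ.2) hgB, ?_, ?_⟩
    · rw [lam_mul hF (Rad_le hF hwQ.2) hgB, ((mem_Rad_iff hF).1 hwQ.2).2, one_mul, hgl]
    · have e : s * (w * g) * s⁻¹ = w * g := by
        calc s * (w * g) * s⁻¹ = (s * w * s⁻¹) * (u * g) := by rw [hu]; group
          _ = w⁻¹ * (w * w * g) := by rw [hinv, hww]
          _ = w * g := by group
      calc w * g * s = s * (w * g) * s⁻¹ * s := by rw [e]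
        _ = s * (w * g) := by group
  haveI := finite_Lim hF H
  haveI := charP_Kc hF (p := p)
  have hp : ¬ p ∣ Nat.card (Lim hF H) := by
    intro h
    obtain ⟨y, hy⟩ := exists_prime_orderOf_dvd_card' (G := ↥(H ⊓ L0 F q)) p (h.trans (card_Lim_dvd hF H))
    have hyo : orderOf (y : G3) = p := (Subgroup.orderOf_coe y).trans hy
    obtain ⟨P, hP⟩ := exists_fix (p := p) hF (Q := Subgroup.zpowers (y : G3))
      (IsPGroup.of_card (n := 1) (by rw [Nat.card_zpowers, hyo, pow_one]))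
    obtain ⟨h, hhH, rfl⟩ := transitive hF (p := p) hS P
    have hB : h⁻¹ * (y : G3) * h ∈ Bor hF := MulAction.mem_stabilizer_iff.2 (by
      rw [mul_smul, mul_smul, hP _ (Subgroup.mem_zpowers _), inv_smul_smul])
    have hH : h⁻¹ * (y : G3) * h ∈ H := H.mul_mem (H.mul_mem (H.inv_mem hhH) y.2.1) hhH
    have ho : orderOf (h⁻¹ * (y : G3) * h) = p := by
      have e := (MulAut.conj h⁻¹).orderOf_eq (y : G3)
      rw [MulAut.conj_apply, inv_inv] at e
      rw [e, hyo]
    have hR := mem_Rad_of_pPow hF (p := p) hB (j := 1) (by rw [pow_one, ← ho, pow_orderOf_eq_one])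
    have hne1 : h⁻¹ * (y : G3) * h ≠ 1 := fun e => by rw [e, orderOf_one] at ho; exact hpp.one_lt.ne ho
    obtain ⟨ν, hνw⟩ := y.2.2
    have hw' : hh (suMat h⁻¹ *ᵥ wv) (suMat h⁻¹ *ᵥ wv) ≠ 0 := by
      rw [su_preserves, herm_ww hF]; exact one_ne_zero
    have hfx : suMat (h⁻¹ * (y : G3) * h) *ᵥ (suMat h⁻¹ *ᵥ wv) = ν • (suMat h⁻¹ *ᵥ wv) := by
      rw [Matrix.mulVec_mulVec, ← suMat_mul, mul_inv_cancel_right, suMat_mul, ← Matrix.mulVec_mulVec, hνw,
        Matrix.mulVec_smul]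
    obtain ⟨-, hg0⟩ := rad_fix_line hF hR hne1 hw' hfx
    exact hne1 (eq_one_of_gam hF hZ ⟨hH, hR⟩ hg0)
  set e := c / Nat.gcd c (q + 1) with he
  have hwit : ∀ o : Option (Skew hF), ∃ lm ∈ Lim hF H, lm • chordCoord hF o = chordCoord hF o ∧
      ∀ i : ℕ, lm ^ i = 1 → e ∣ i := by
    intro o
    obtain ⟨h, hhH, hP⟩ := transitive hF (p := p) hS (chordPt hF o)
    set s := h⁻¹ * t * h with hs
    have hsB : s ∈ Bor hF := MulAction.mem_stabilizer_iff.2 (by
      rw [hs, mul_smul, mul_smul, hP, chord_fixed hF hplane, ← hP, inv_smul_smul])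
    have hts : h * s * h⁻¹ = t := by rw [hs]; group
    have hsl : lam hF s = -1 := by
      have h1 := eigen_conj hF hsB hP
      rw [hts, hplane _ (chordVec_spec hF o).2.2] at h1
      exact (smul_left_injective F (chordVec_spec hF o).1 h1).symm
    have hs2 : s * s = 1 := by
      calc s * s = h⁻¹ * (t * t) * h := by rw [hs]; group
        _ = 1 := by rw [ht2]; group
    obtain ⟨x, hxH, hxB, hxl, hxs⟩ := hgen s (H.mul_mem (H.mul_mem (H.inv_mem hhH) htH) hhH) hsB hs2 hsl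
    have hcomm : h * x * h⁻¹ * t = t * (h * x * h⁻¹) := by
      calc h * x * h⁻¹ * t = h * (x * s) * h⁻¹ := by rw [hs]; group
        _ = h * (s * x) * h⁻¹ := by rw [hxs]
        _ = t * (h * x * h⁻¹) := by rw [hs]; group
    have hL : h * x * h⁻¹ ∈ L0 F q :=
      mem_L0_of_commute hF htB hN (by rw [hν, one_smul]; exact htw) hne hcomm
    obtain ⟨lm, hlm, hfix, hord⟩ := mem_Lim_of_fix hF (H := H) (H.mul_mem (H.mul_mem hhH hxH) (H.inv_mem hhH))
      hL o (eigen_conj hF hxB hP)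
    refine ⟨lm, hlm, hfix, fun i hi => ?_⟩
    have h2 := hord i hi
    rwa [hxl, ← pow_succ', ← Units.val_pow_eq_pow_val, orderOf_units, orderOf_pow' _ (by omega), hγo, ← he] at h2
  have hg6 : Nat.gcd c (q + 1) ∣ 6 := by
    have h1 : Nat.gcd c (q + 1) ∣ 3 * (q + 1) - 3 * (q - 1) :=
      Nat.dvd_sub ((Nat.gcd_dvd_right c (q + 1)).mul_left 3) ((Nat.gcd_dvd_left c (q + 1)).trans ⟨j, hcj.symm⟩)
    rwa [show 3 * (q + 1) - 3 * (q - 1) = 6 by omega] at h1
  have hge : c = e * Nat.gcd c (q + 1) := (Nat.div_mul_cancel (Nat.gcd_dvd_left _ _)).symm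
  have hgle := Nat.le_of_dvd (by norm_num) hg6
  have he6 : c ≤ e * 6 := hge.le.trans (Nat.mul_le_mul_left _ hgle)
  have hc2 : 3 * (q - 1) ≤ c * 2 := hcj ▸ Nat.mul_le_mul_left _ (by omega)
  have hres := tame_chord (Lim hF H) (unipotents_empty p _ hp) (chordCoord hF) (chordCoord_injective hF)
    (by rw [card_chord hF]; omega) (by omega : 3 ≤ e) hwit
  have he5 : e ≤ 5 := by
    rcases hres with ⟨-, h⟩ | ⟨-, h | ⟨h, -⟩⟩ | ⟨-, h | h⟩ <;> have := Nat.le_of_dvd (by norm_num) h <;> omega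
  have hq21 : q ≤ 21 := by omega
  obtain ⟨k, hk0, hk⟩ := exists_q_pow (p := p) hF
  obtain rfl : k = 1 := by
    by_contra hk1
    have h1 := Nat.pow_le_pow_left hp5 k
    have h2 := Nat.pow_le_pow_right (show 0 < 5 by norm_num) (show 2 ≤ k by omega)
    omega
  rw [pow_one] at hk
  subst hk
  have hq' : q = 11 ∨ q = 17 := by
    have key : ∀ n < 22, n.Prime → 11 ≤ n → n % 3 = 2 → n = 11 ∨ n = 17 := by decide +kernel
    exact key q (by omega) hpp hq11 hq3
  rcases hq' with rfl | rfl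
  · have hc30 : c = 30 := by rcases hj with rfl | rfl <;> omega
    obtain ⟨x, C, a, n, hxH, hxo, -, hCdef, hrC, hodd, h3C, hC, ha, hn, hcard, -, ha1⟩ :=
      sylow_data hF (p := 11) hS (r := 37) (by norm_num) (by norm_num) (by norm_num) (by norm_num)
    have hH : Nat.card H = 439560 := by
      rw [card_eq hF (p := 11) hS, hQq, ← hc, hc30]; norm_num
    rw [hH] at hcard
    norm_num at hC h3C ha
    have hC' : C = 111 ∨ C = 333 ∨ C = 999 := by
      have key : ∀ C ∈ Nat.divisors 3996, 37 ∣ C → ¬ 2 ∣ C → 3 ∣ C → C = 111 ∨ C = 333 ∨ C = 999 := by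
        decide +kernel
      exact key C (Nat.mem_divisors.2 ⟨hC, by norm_num⟩) hrC hodd h3C
    have key : ∀ a ∈ Nat.divisors 36, ∀ C ∈ ({111, 333, 999} : Finset ℕ), C * a ∣ 439560 →
        439560 / (C * a) % 37 = 1 → a = 1 ∧ C = 111 := by decide +kernel
    have hCa : 0 < C * a := Nat.pos_of_ne_zero fun h => by rw [h, mul_zero] at hcard; omega
    obtain ⟨ha', hC111⟩ := key a (Nat.mem_divisors.2 ⟨ha, by norm_num⟩) C
      (by simpa using hC') ⟨n, by rw [← hcard, mul_comm]⟩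
      (by rw [← hcard, Nat.mul_div_cancel _ hCa]; exact hn)
    refine eleven_false hH (x := (⟨x, hxH⟩ : H)) (by rw [← Subgroup.orderOf_coe]; exact hxo) (fun y hy => ?_) ?_
    · refine Subtype.ext (ha1 ha' y y.2 ?_)
      obtain ⟨i, hi⟩ := Subgroup.mem_zpowers_iff.1 hy
      exact Subgroup.mem_zpowers_iff.2 ⟨i, by simpa using congrArg Subtype.val hi⟩
    · intro h5'
      have h2 : Nat.card (Subgroup.centralizer ({⟨x, hxH⟩} : Set H)) = C := by
        rw [hCdef]
        exact Nat.card_congr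
          { toFun := fun y => ⟨y.1.1, y.1.2, Subgroup.mem_centralizer_singleton_iff.2
              (congrArg Subtype.val (Subgroup.mem_centralizer_singleton_iff.1 y.2))⟩
            invFun := fun y => ⟨⟨y.1, y.2.1⟩, Subgroup.mem_centralizer_singleton_iff.2
              (Subtype.ext (Subgroup.mem_centralizer_singleton_iff.1 y.2.2))⟩
            left_inv := fun y => rfl
            right_inv := fun y => rfl }
      rw [h2, hC111] at h5'
      norm_num at h5'
  · rw [card_chord hF] at hres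
    have hc' : c = 24 ∨ c = 48 := by rcases hj with rfl | rfl <;> omega
    rcases hc' with h | h <;> rw [h] at he <;> norm_num at he <;> rw [he] at hres <;> norm_num at hres

/-- The central part is not trivial. -/
theorem caseB0 {H : Subgroup (G 1 F q)} (hS : Small H) (hq : 3 ≤ q) (h5 : q ≠ 5) (hZ : Z0 hF H = ⊥)
    (hQ : Nat.card (Qp hF H) ≠ 1) : False := by
  obtain ⟨hqodd, hp5, hq11, hq3, hQq, j, hj, hcj, hceven⟩ := b0_data hF (p := p) hS hq h5 hZ hQ
  haveI : Fact (Nat.Prime 2) := ⟨Nat.prime_two⟩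
  obtain ⟨t, ht⟩ := exists_prime_orderOf_dvd_card' (G := ↥(H ⊓ Bor hF)) 2
    (card_HB hF H ▸ hceven.mul_left _)
  have hto : orderOf (t : G3) = 2 := (Subgroup.orderOf_coe t).trans ht
  have ht2 : (t : G3) * t = 1 := by rw [← pow_two, ← hto, pow_orderOf_eq_one]
  have htl : lam hF (t : G3) = -1 := by
    have h := lam_mul hF t.2.2 t.2.2
    rw [ht2, lam_one] at h
    rcases mul_self_eq_one_iff.1 h.symm with h1 | h1
    · exfalso
      have hd := Subgroup.orderOf_dvd_natCard (Qp hF H) ⟨t.2.1, (mem_Rad_iff hF).2 ⟨t.2.2, h1⟩⟩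
      rw [hto, hQq] at hd
      exact hqodd.not_two_dvd_nat hd
    · exact h1
  have h2F : (2 : F) ≠ 0 := by
    intro h
    have h' := (CharP.cast_eq_zero_iff F p 2).1 (by exact_mod_cast h)
    have := Nat.le_of_dvd two_pos h'
    omega
  have hν : lam hF (t : G3) ^ q / lam hF (t : G3) = 1 := by rw [htl, hqodd.neg_one_pow]; simp
  obtain ⟨r, hrR, hrw⟩ := exists_rad_fix hF t.2.2 (by
    rw [hν, htl]; intro h; exact h2F (by linear_combination h))
  rw [hν, one_smul] at hrw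
  set H' := H.map (MulAut.conj r).toMonoidHom with hH'
  have hconjz : ∀ z : Skew hF, r⁻¹ * zE hF z * r = zE hF z := by
    intro z
    have hri := (Rad hF).inv_mem hrR
    have h := conj_zE hF (g := r⁻¹) (Bor_ev hF (Rad_le hF hri)) z z
      (by rw [((mem_Rad_iff hF).1 hri).2, one_pow, mul_one, mul_one])
    rwa [inv_inv] at h
  have hZ' : Z0 hF H' = ⊥ := by
    rw [eq_bot_iff]
    intro z hz
    have h := (mem_conj_iff r _).1 ((mem_Z0 hF H').1 hz)
    rw [hconjz] at h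
    have : z ∈ Z0 hF H := h
    rwa [hZ] at this
  have hQ' : Nat.card (Qp hF H') ≠ 1 := by
    intro h
    refine hQ ?_
    rw [Nat.card_eq_one_iff_unique]
    refine ⟨⟨fun a b => ?_⟩, ⟨1⟩⟩
    haveI := (Nat.card_eq_one_iff_unique.1 h).1
    have key : ∀ a : Qp hF H, (a : G3) = 1 := fun a => by
      have hm : r * (a : G3) * r⁻¹ ∈ Qp hF H' :=
        ⟨⟨_, a.2.1, rfl⟩, (Rad hF).mul_mem ((Rad hF).mul_mem hrR a.2.2) ((Rad hF).inv_mem hrR)⟩
      exact conj_eq_one_iff.1 (congrArg Subtype.val (Subsingleton.elim (⟨_, hm⟩ : Qp hF H') 1))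
    exact Subtype.ext ((key a).trans (key b).symm)
  obtain ⟨htB', htl'⟩ := conj_Rad_lam hF t.2.2 hrR
  refine b0_core hF (p := p) (hS.conj r) hq h5 hZ' hQ' (t := r * (t : G3) * r⁻¹) ⟨_, t.2.1, rfl⟩ htB' ?_
    (htl'.trans htl) hrw
  calc r * (t : G3) * r⁻¹ * (r * t * r⁻¹) = r * ((t : G3) * t) * r⁻¹ := by group
    _ = 1 := by rw [ht2]; group

end CfsgLib.MinIdxU3
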