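import Cfsg.Agent.MinIdxU3.CaseB0
import Cfsg.Agent.Dickson.MaxPSL
import Mathlib.Algebra.Polynomial.Roots
import Mathlib.LinearAlgebra.FiniteDimensional.Lemmas

/-!
A small subgroup contains no root element.
-/

set_option autoImplicit false
set_option linter.style.haveILetI false
set_option linter.unusedSectionVars false

namespace CfsgLib.MinIdxU3

open Matrix CfsgLib.Unitary CfsgLib.Forms CfsgLib.MinIdxPSU CfsgLib.Dickson
open scoped Classical

theorem five_five : ∀ n, Nat.card (alternatingGroup (Fin 5)) = n → n = 60 := by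
  intro n hn
  rw [← hn, nat_card_alternatingGroup]
  simp [Nat.factorial]

variable {F : Type*} [Field F] [Finite F] {q : ℕ} (hF : Nat.card F = q ^ 2)
  {p : ℕ} [Fact p.Prime] [CharP F p]

local notation "hh" => Cfsg.hermForm (1 + 1 + 1) F q
local notation "V3" => Fin (1 + 1 + 1) → F
local notation "G3" => G 1 F q

include hF

/-- The root elements as a homomorphism. -/
noncomputable def zHom : Multiplicative (Skew hF) →* G3 where
  toFun z := zE hF z.toAdd
  map_one' := zE_zero hF
  map_mul' z w := zE_add hF z.toAdd w.toAdd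

theorem gam_zero_of_sq (h2 : (2 : F) = 0) {r : G3} (hr : r ∈ Rad hF) (hr2 : r * r = 1) : gam hF r = 0 := by
  obtain ⟨s, hs, e⟩ := eq_rad_of_lam_one hF ((mem_Rad_iff hF).1 hr).1 ((mem_Rad_iff hF).1 hr).2
  generalize gam hF r = a at hs e ⊢
  rw [e, rad_mul hF hs hs (heis_mul hF hs hs)] at hr2
  have e0 : ((fun _ : Fin 1 => a) + fun _ => a) = 0 := funext fun i => by
    change a + a = 0
    linear_combination a * h2
  have e1 : s + s - Cfsg.hermForm 1 F q (fun _ => a) (fun _ => a) = a * a ^ q := by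
    rw [herm_one]
    linear_combination (s - a * a ^ q) * h2
  rw [rad_congr hF e0 e1] at hr2
  have hsk : a * a ^ q ∈ Skew hF := by
    rw [mem_skew_iff]
    have h3 : (a * a ^ q) ^ q = a * a ^ q := by rw [mul_pow, pow_q_q hF, mul_comm]
    linear_combination h3 + (a * a ^ q) * h2
  have h0 : (⟨_, hsk⟩ : Skew hF) = 0 := zE_injective (k := 1) hF (by rw [zE_zero]; exact hr2)
  rcases mul_eq_zero.1 (congrArg Subtype.val h0) with h | h
  · exact h
  · exact eq_zero_of_pow_eq_zero h

/-- A root element fixes the hyperplane of its centre. -/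
theorem conj_zE_fix {h : G3} (z : Skew hF) {y : V3} (hy : hh y (suMat h *ᵥ ev hF) = 0) :
    suMat (h * zE hF z * h⁻¹) *ᵥ y = y := by
  have h1 : hh (suMat h⁻¹ *ᵥ y) (ev hF) = 0 := by
    rw [← su_preserves h, Matrix.mulVec_mulVec, ← suMat_mul, mul_inv_cancel, suMat_one, Matrix.one_mulVec, hy]
  rw [suMat_mul, suMat_mul, ← Matrix.mulVec_mulVec, ← Matrix.mulVec_mulVec, zE_apply hF, h1, mul_zero, zero_smul,
    add_zero, Matrix.mulVec_mulVec, ← suMat_mul, mul_inv_cancel, suMat_one, Matrix.one_mulVec]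

include p

theorem z0_pow {H : Subgroup (G 1 F q)} : ∃ i, Nat.card (Z0 hF H) = p ^ i := by
  obtain ⟨e, -, he⟩ := exists_q_pow (p := p) hF
  have h := AddSubgroup.card_addSubgroup_dvd_card (Z0 hF H)
  rw [(card_fix_skew hF).2] at h
  obtain ⟨i, -, hi⟩ := (Nat.dvd_prime_pow Fact.out).1 (h.trans (dvd_of_eq he))
  exact ⟨i, hi⟩

/-- The root subgroup of a point of the chord. -/
theorem root_chord {H : Subgroup (G 1 F q)} (hS : Small H) (o : Option (Skew hF)) :
    ∃ φ : Multiplicative (Z0 hF H) →* PGL2 (Kc F), Function.Injective φ ∧ (∀ z, φ z ∈ Lim hF H) ∧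
      ∀ z, z ≠ 1 → fix (φ z) = {chordCoord hF o} ∧ φ z ^ p = 1 := by
  haveI := charP_Kc hF (p := p)
  obtain ⟨h, hhH, hP⟩ := transitive hF (p := p) hS (chordPt hF o)
  have hP' := hP
  rw [P0, smul_pt, chordPt, pt_eq_iff] at hP'
  obtain ⟨a, ha⟩ := hP'
  have ha0 : a ≠ 0 := fun e => by
    rw [e, zero_smul] at ha
    exact su_mulVec_ne_zero h (ev_ne_zero hF) ha.symm
  have hwh : hh wv (suMat h *ᵥ ev hF) = 0 := by
    have h1 : hh (chordVec hF o) wv = 0 := (chordVec_spec hF o).2.2
    rw [← ha, herm_smul_right hF, herm_swap hF (chordVec hF o) wv, h1, zero_pow (pos_q hF).ne', mul_zero]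
  let ψ : Multiplicative (Z0 hF H) →* L0 F q :=
    { toFun := fun z => ⟨h * zE hF (z.toAdd : Skew hF) * h⁻¹, 1, by rw [conj_zE_fix hF _ hwh, one_smul]⟩
      map_one' := Subtype.ext (by
        change h * zE hF (0 : Skew hF) * h⁻¹ = 1
        rw [zE_zero, mul_one, mul_inv_cancel])
      map_mul' := fun z w => Subtype.ext (by
        change h * zE hF ((z.toAdd : Skew hF) + (w.toAdd : Skew hF)) * h⁻¹ =
          h * zE hF (z.toAdd : Skew hF) * h⁻¹ * (h * zE hF (w.toAdd : Skew hF) * h⁻¹)
        rw [zE_add]; group) }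
  have hψH : ∀ z, (ψ z : G3) ∈ H := fun z => H.mul_mem (H.mul_mem hhH ((mem_Z0 hF H).1 z.toAdd.2)) (H.inv_mem hhH)
  have hzp : ∀ z : Multiplicative (Z0 hF H), z ^ p = 1 := fun z => by
    apply Multiplicative.toAdd.injective
    apply Subtype.ext
    apply Subtype.ext
    simp [toAdd_pow, CharP.cast_eq_zero F p]
  have hne : ∀ z, z ≠ 1 → rho hF (ψ z) ≠ 1 := by
    intro z hz
    refine rho_ne_one hF (ψ z).2 (p := p) (j := 1) (fun e => hz ?_) ?_
    · have e' : h * zE hF (z.toAdd : Skew hF) * h⁻¹ = 1 := e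
      rw [conj_eq_one_iff, ← zE_zero (k := 1) hF] at e'
      exact Multiplicative.toAdd.injective (Subtype.ext (zE_injective hF e'))
    · rw [pow_one, ← SubgroupClass.coe_pow, ← map_pow, hzp, map_one, OneMemClass.coe_one]
  refine ⟨(rho hF).comp ψ, (injective_iff_map_eq_one _).2 fun z hz => by_contra fun h0 => hne z h0 hz,
    fun z => mem_Lim hF (hψH z) (ψ z).2, fun z hz => ⟨?_, by rw [← map_pow, hzp, map_one]⟩⟩
  obtain ⟨x, hx⟩ := fix_singleton_of_pow p (hne z hz) (k := 1) (by rw [pow_one, ← map_pow, ← map_pow, hzp, map_one, map_one])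
  have hv : suMat (h * zE hF (z.toAdd : Skew hF) * h⁻¹) *ᵥ chordVec hF o = (1 : F) • chordVec hF o := by
    rw [one_smul]
    refine conj_zE_fix hF _ ?_
    rw [← ha, herm_smul_right hF, (chordVec_spec hF o).2.1, mul_zero]
  have hmem : chordCoord hF o ∈ fix (rho hF (ψ z)) :=
    rho_fix hF (ψ z).2 (chordVec_spec hF o).1 (chordVec_spec hF o).2.2 hv
  rw [hx, Set.mem_singleton_iff] at hmem
  change fix (rho hF (ψ z)) = _
  rw [hx, hmem]

/-- The case of two root elements. -/
theorem b1_two {H : Subgroup (G 1 F q)} (hS : Small H) (hq : 3 ≤ q) (hp : p = 2)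
    (hz0 : Nat.card (Z0 hF H) = 2) : False := by
  subst hp
  have h2 : (2 : F) = 0 := by exact_mod_cast CharP.cast_eq_zero F 2
  haveI : Nontrivial (Z0 hF H) := Finite.one_lt_card_iff_nontrivial.1 (by omega)
  obtain ⟨z₁, hz₁⟩ := exists_ne (0 : Z0 hF H)
  have hzall : ∀ z ∈ Z0 hF H, (z : F) ≠ 0 → (z : F) = ((z₁ : Skew hF) : F) := by
    intro z hz hz0'
    by_contra hne
    have h3 : ({0, z₁, ⟨z, hz⟩} : Finset (Z0 hF H)).card = 3 := by
      rw [Finset.card_eq_three]
      refine ⟨_, _, _, hz₁.symm, fun e => hz0' ?_, fun e => hne ?_, rfl⟩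
      · rw [← congrArg (fun w : Z0 hF H => ((w : Skew hF) : F)) e]; rfl
      · exact (congrArg (fun w : Z0 hF H => ((w : Skew hF) : F)) e).symm
    haveI := Fintype.ofFinite (Z0 hF H)
    have := Finset.card_le_univ ({0, z₁, ⟨z, hz⟩} : Finset (Z0 hF H))
    rw [h3, ← Nat.card_eq_fintype_card, hz0] at this
    omega
  have hz₁0 : ((z₁ : Skew hF) : F) ≠ 0 := fun e => hz₁ (Subtype.ext (Subtype.ext e))
  set c := Nat.card (Cim hF H) with hc
  have hN : ∀ g ∈ H, g ∈ Bor hF → lam hF g * lam hF g ^ q = 1 := by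
    intro g hg hgB
    set N := lam hF g * lam hF g ^ q with hNdef
    have hNq : N ^ q = N := by rw [hNdef, mul_pow, pow_q_q hF, mul_comm]
    have hw : ((z₁ : Skew hF) : F) * N ∈ Skew hF := by
      rw [mem_skew_iff, mul_pow, hNq]
      linear_combination N * (mem_skew_iff hF).1 (z₁ : Skew hF).2
    have h := hzall _ (norm_mem hF hg hgB (z := z₁) (w := ⟨_, hw⟩) rfl z₁.2)
      (mul_ne_zero hz₁0 (mul_ne_zero (lam_ne hF hgB) (pow_ne_zero _ (lam_ne hF hgB))))
    exact (mul_eq_left₀ hz₁0).1 h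
  obtain ⟨u, hu⟩ := IsCyclic.exists_ofOrder_eq_natCard (α := Cim hF H)
  obtain ⟨g, hgH, hgB, hgl⟩ := (mem_Cim_iff hF H).1 u.2
  have hcq : c ∣ q + 1 := by
    rw [hc, ← hu, orderOf_dvd_iff_pow_eq_one]
    refine Subtype.ext (Units.ext ?_)
    simp only [SubmonoidClass.coe_pow, Units.val_pow_eq_pow_val, OneMemClass.coe_one, Units.val_one, ← hgl]
    rw [pow_succ']
    exact hN g hgH hgB
  have habar4 : Nat.card (abar hF H) ≤ 4 := by
    by_cases htriv : ∀ a ∈ abar hF H, a = 0
    · haveI : Subsingleton (abar hF H) := ⟨fun a b => Subtype.ext ((htriv _ a.2).trans (htriv _ b.2).symm)⟩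
      exact (Finite.card_le_one_iff_subsingleton.2 inferInstance).trans (by norm_num)
    push Not at htriv
    obtain ⟨a, ha, ha0⟩ := htriv
    have hsqa : ∀ b ∈ abar hF H, b ≠ 0 → b * b ^ q = ((z₁ : Skew hF) : F) := fun b hb hb0 => by
      obtain ⟨z, hz, hzv⟩ := sq_mem hF h2 hb
      rw [← hzv]
      exact hzall z hz (by rw [hzv]; exact mul_ne_zero hb0 (pow_ne_zero _ hb0))
    have hroot : ∀ b ∈ abar hF H, b / a ∈ (Polynomial.X ^ 4 - Polynomial.X : Polynomial F).roots.toFinset := by
      intro b hb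
      have hP0 : (Polynomial.X ^ 4 - Polynomial.X : Polynomial F) ≠ 0 := FiniteField.X_pow_card_sub_X_ne_zero F (by norm_num)
      rw [Multiset.mem_toFinset, Polynomial.mem_roots hP0]
      simp only [Polynomial.IsRoot, Polynomial.eval_sub, Polynomial.eval_pow, Polynomial.eval_X]
      rcases eq_or_ne b 0 with rfl | hb0
      · simp
      rcases eq_or_ne b a with rfl | hba
      · rw [div_self hb0]; ring
      have hsum : a + b ≠ 0 := fun e => hba (by linear_combination e - a * h2)
      have e1 := hsqa b hb hb0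
      have e2 := hsqa (a + b) (add_mem ha hb) hsum
      have e3 := hsqa a ha ha0
      obtain ⟨x, rfl⟩ : ∃ x, b = x * a := ⟨b / a, (div_mul_cancel₀ b ha0).symm⟩
      rw [mul_div_assoc, div_self ha0, mul_one]
      have hxq : (a + x * a) ^ q = a ^ q + x ^ q * a ^ q := by rw [add_pow_q hF, mul_pow]
      rw [mul_pow, ← e3] at e1
      rw [hxq, ← e3] at e2
      have hNa : a * a ^ q ≠ 0 := mul_ne_zero ha0 (pow_ne_zero _ ha0)
      have f1 : x * x ^ q = 1 := mul_right_cancel₀ hNa (by linear_combination e1)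
      have f2 : x + x ^ q + 1 = 0 := by
        refine (mul_eq_zero.1 (show (x + x ^ q + 1) * (a * a ^ q) = 0 from ?_)).resolve_right hNa
        linear_combination e2 - (a * a ^ q) * f1
      have f3 : x ^ 2 + x + 1 = 0 := by linear_combination x * f2 - f1
      linear_combination (x ^ 2 - x) * f3
    have h1 := Nat.card_le_card_of_injective (fun b : abar hF H => (⟨_, hroot b b.2⟩ :
      {x // x ∈ (Polynomial.X ^ 4 - Polynomial.X : Polynomial F).roots.toFinset})) (fun b b' e => by
        have e' := congrArg Subtype.val e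
        exact Subtype.ext (by rwa [div_left_inj' ha0] at e'))
    rw [Nat.card_eq_finsetCard] at h1
    refine h1.trans ((Multiset.toFinset_card_le _).trans ((Polynomial.card_roots' _).trans ?_))
    rw [FiniteField.X_pow_card_sub_X_natDegree_eq F (by norm_num)]
  have hQ : Nat.card (Qp hF H) = 2 * Nat.card (abar hF H) := by rw [card_Qp hF H, hz0]
  have hsub := sub_le hF (p := 2) hS
  rw [← hc, hQ] at hsub
  have hcle : c ≤ q + 1 := Nat.le_of_dvd (by omega) hcq
  have hsub2 : q ^ 2 - 1 ≤ 8 * (q + 1) := hsub.trans (Nat.mul_le_mul (by omega) hcle)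
  have hq9 : q ≤ 9 := by
    by_contra hlt
    have : 10 * q ≤ q ^ 2 := by rw [pow_two]; exact Nat.mul_le_mul_right _ (by omega)
    omega
  obtain ⟨e, he0, he⟩ := exists_q_pow (p := 2) hF
  have he4 : e < 4 := by
    by_contra hlt
    have := Nat.pow_le_pow_right (show 0 < 2 by norm_num) (not_lt.1 hlt)
    omega
  have hq48 : q = 4 ∨ q = 8 := by interval_cases e <;> omega
  obtain ⟨i, hi⟩ : ∃ i, Nat.card (Qp hF H) = 2 ^ i := IsPGroup.iff_card.1 ((isPGroup_Rad (p := 2) hF).to_le (inf_le_right : Qp hF H ≤ Rad hF))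
  rcases hq48 with rfl | rfl
  · have hc5 : c = 5 := by
      rcases (Nat.dvd_prime (by norm_num)).1 (show c ∣ 5 from hcq) with h | h
      · rw [h] at hsub; omega
      · exact h
    rw [hc5] at hsub
    haveI : Nontrivial (abar hF H) := Finite.one_lt_card_iff_nontrivial.1 (by omega)
    obtain ⟨⟨a, ha⟩, hne⟩ := exists_ne (0 : abar hF H)
    have ha0 : a ≠ 0 := fun e => hne (Subtype.ext e)
    have hl := lam_ne hF hgB
    haveI : Fact (Nat.Prime 5) := ⟨by norm_num⟩
    set μ := lam hF g ^ 4 * (lam hF g ^ 4 / lam hF g) with hμ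
    have hl5 : lam hF g ^ 5 = 1 := by rw [pow_succ']; exact hN g hgH hgB
    have hμ2 : μ = lam hF g ^ 2 := by
      rw [hμ, mul_div_assoc', div_eq_iff hl]
      linear_combination (lam hF g ^ 3) * hl5
    have hmem : ∀ i : ℕ, μ ^ i * a ∈ abar hF H := fun i => by
      induction i with
      | zero => rwa [pow_zero, one_mul]
      | succ i ih =>
        have h := mu_mem hF hgH hgB ih
        rwa [← hμ, ← mul_assoc, ← pow_succ'] at h
    have hμo : orderOf μ = 5 := by
      refine orderOf_eq_prime (p := 5) (by rw [hμ2, ← pow_mul, mul_comm, pow_mul, hl5, one_pow]) fun e => ?_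
      have h1 : lam hF g = 1 := by
        rw [hμ2] at e
        linear_combination hl5 - (lam hF g ^ 3 + lam hF g) * e
      have h2' : u = 1 := Subtype.ext (Units.ext (hgl.symm.trans h1))
      rw [h2', orderOf_one] at hu
      omega
    have hinj : Function.Injective (fun i : Fin 5 => (⟨_, hmem i⟩ : abar hF H)) := by
      intro i j h
      have h' := mul_right_cancel₀ ha0 (congrArg Subtype.val h)
      exact Fin.ext (pow_injOn_Iio_orderOf (x := μ) (by rw [hμo]; exact i.2) (by rw [hμo]; exact j.2) h')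
    have := Nat.card_le_card_of_injective _ hinj
    rw [Nat.card_fin] at this
    omega
  · have hc9 : c = 9 := by
      have hm := Nat.mem_divisors.2 ⟨hcq, by norm_num⟩
      rw [show Nat.divisors (8 + 1) = ({1, 3, 9} : Finset ℕ) by decide +kernel] at hm
      simp only [Finset.mem_insert, Finset.mem_singleton] at hm
      rcases hm with h | h | h
      · rw [h] at hsub; omega
      · rw [h] at hsub; omega
      · exact h
    rw [hc9] at hsub
    have hQ8 : Nat.card (Qp hF H) = 8 := by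
      rw [← hQ, hi] at hsub
      have h8 : 2 ^ i ≤ 8 := by rw [← hi, hQ]; omega
      have : i ≤ 3 := (Nat.pow_le_pow_iff_right one_lt_two).1 (h8.trans_eq (by norm_num))
      rw [hi]
      interval_cases i <;> omega
    obtain ⟨x, C, a, n, hxH, hxo, hfix, -, hrC, hodd, h3C, hC, ha, hn, hcard, hinv, -⟩ :=
      sylow_data hF (p := 2) hS (r := 19) (by norm_num) (by norm_num) (by norm_num) (by norm_num)
    rw [card_eq hF (p := 2) hS, hQ8, ← hc, hc9] at hcard
    norm_num at hcard hC h3C ha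
    have hC' : C = 57 ∨ C = 171 ∨ C = 513 ∨ C = 1539 := by
      have key : ∀ C ∈ Nat.divisors 1539, 19 ∣ C → 3 ∣ C → C = 57 ∨ C = 171 ∨ C = 513 ∨ C = 1539 := by
        decide +kernel
      exact key C (Nat.mem_divisors.2 ⟨hC, by norm_num⟩) hrC h3C
    have key : ∀ a ∈ Nat.divisors 18, ∀ C ∈ ({57, 171, 513, 1539} : Finset ℕ), C * a ∣ 36936 →
        36936 / (C * a) % 19 = 1 → 2 ∣ a := by decide +kernel
    have hCa : 0 < C * a := Nat.pos_of_ne_zero fun h => by rw [h, mul_zero] at hcard; omega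
    obtain ⟨t, htH, ht2, htne, htx⟩ := hinv (key a (Nat.mem_divisors.2 ⟨ha, by norm_num⟩) C
      (by simpa using hC') ⟨n, by rw [← hcard, mul_comm]⟩
      (by rw [← hcard, Nat.mul_div_cancel _ hCa]; exact hn))
    obtain ⟨P, hP⟩ := invol_fix hF (p := 2) ht2
    obtain ⟨h, hhH, rfl⟩ := transitive hF (p := 2) hS P
    set s := h⁻¹ * t * h with hs
    have hsB : s ∈ Bor hF := MulAction.mem_stabilizer_iff.2 (by rw [hs, mul_smul, mul_smul, hP, inv_smul_smul])
    have hs2 : s * s = 1 := by
      calc s * s = h⁻¹ * (t * t) * h := by rw [hs]; group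
        _ = 1 := by rw [ht2]; group
    have hsR : s ∈ Rad hF := mem_Rad_of_pPow hF (p := 2) hsB (j := 1) (by rw [pow_one, pow_two]; exact hs2)
    obtain ⟨z, hz⟩ := eq_zE_of_gam hF hsR (gam_zero_of_sq hF h2 hsR hs2)
    have ht : t = h * zE hF z * h⁻¹ := by rw [← hz, hs]; group
    set v := suMat h *ᵥ ev hF with hv
    let M : V3 →ₗ[F] F × F :=
      { toFun := fun y => (Cfsg.hermForm (1 + 1 + 1) F 8 y v, Cfsg.hermForm (1 + 1 + 1) F 8 y (suMat x *ᵥ v))
        map_add' := fun y y' => by simp only [herm_add_left]; rfl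
        map_smul' := fun b y => by simp only [herm_smul_left]; rfl }
    obtain ⟨u', hu', hu0⟩ : ∃ u' ∈ LinearMap.ker M, u' ≠ 0 := by
      refine Submodule.exists_mem_ne_zero_of_ne_bot fun hbot => ?_
      have := LinearMap.finrank_le_finrank_of_injective (LinearMap.ker_eq_bot.1 hbot)
      simp at this
    rw [LinearMap.mem_ker] at hu'
    have e1 : Cfsg.hermForm (1 + 1 + 1) F 8 u' v = 0 := congrArg Prod.fst hu'
    have e2 : Cfsg.hermForm (1 + 1 + 1) F 8 u' (suMat x *ᵥ v) = 0 := congrArg Prod.snd hu'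
    have f1 : suMat t *ᵥ u' = u' := by rw [ht]; exact conj_zE_fix hF z e1
    have f2 : suMat (x * t * x⁻¹) *ᵥ u' = u' := by
      rw [ht, show x * (h * zE hF z * h⁻¹) * x⁻¹ = (x * h) * zE hF z * (x * h)⁻¹ by group]
      exact conj_zE_fix hF z (by rw [suMat_mul, ← Matrix.mulVec_mulVec]; exact e2)
    have hx2 : x * t * x⁻¹ * t = x ^ 2 := by
      have hti : t⁻¹ = t := inv_eq_of_mul_eq_one_right ht2
      have e : t * x⁻¹ * t = x := by
        rw [← htx, hti]
        calc t * (t * x * t) * t = (t * t) * x * (t * t) := by group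
          _ = x := by rw [ht2]; group
      calc x * t * x⁻¹ * t = x * (t * x⁻¹ * t) := by group
        _ = x ^ 2 := by rw [e, pow_two]
    have f3 : suMat (x ^ 2) *ᵥ u' = u' := by rw [← hx2, suMat_mul, ← Matrix.mulVec_mulVec, f1, f2]
    have f4 : ∀ i : ℕ, suMat ((x ^ 2) ^ i) *ᵥ u' = u' := fun i => by
      induction i with
      | zero => rw [pow_zero, suMat_one, Matrix.one_mulVec]
      | succ i ih => rw [pow_succ, suMat_mul, ← Matrix.mulVec_mulVec, f3, ih]
    have f5 : suMat x *ᵥ u' = u' := by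
      have h := f4 10
      rwa [← pow_mul, show 2 * 10 = orderOf x + 1 by rw [hxo], pow_succ, pow_orderOf_eq_one, one_mul] at h
    have hzero : ∀ y : V3, Cfsg.hermForm (1 + 1 + 1) F 8 u' y = 0 := by
      intro y
      have hy : y ∈ Submodule.span F (Set.range ![v, suMat x *ᵥ v, suMat x *ᵥ (suMat x *ᵥ v)]) := by
        rw [moves_span hF (by norm_num) hxo (by norm_num) hfix (su_mulVec_ne_zero h (ev_ne_zero hF))
          ((su_preserves h _ _).trans (herm_ee hF))]
        exact Submodule.mem_top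
      induction hy using Submodule.span_induction with
      | mem w hw =>
        obtain ⟨j, rfl⟩ := hw
        fin_cases j
        · exact e1
        · exact e2
        · change Cfsg.hermForm (1 + 1 + 1) F 8 u' (suMat x *ᵥ (suMat x *ᵥ v)) = 0
          rw [← f5, su_preserves, e2]
      | zero => simp [Cfsg.hermForm]
      | add w w' _ _ hw hw' => rw [herm_add_right hF, hw, hw', add_zero]
      | smul b w _ hw => rw [herm_smul_right hF, hw, mul_zero]
    exact hu0 (uForm_nondeg hF _ u' fun y => by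
      change Cfsg.hermForm (1 + 1 + 1) F 8 y u' = 0
      rw [herm_swap hF u' y, hzero y, zero_pow (by norm_num)])

/-- The case of three root elements and `q = 9`. -/
theorem b1_three {H : Subgroup (G 1 F q)} (hS : Small H) (hq : q = 9) (hp : p = 3)
    (hz0 : Nat.card (Z0 hF H) = 3) (hle : Nat.card (abar hF H) ≤ q) : False := by
  subst hq; subst hp
  obtain ⟨k, hk⟩ : ∃ k, Nat.card (Qp hF H) = 3 ^ k := IsPGroup.iff_card.1 ((isPGroup_Rad (p := 3) hF).to_le (inf_le_right : Qp hF H ≤ Rad hF))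
  have hk3 : k ≤ 3 := by
    refine (Nat.pow_le_pow_iff_right (show 1 < 3 by norm_num)).1 ?_
    rw [← hk, card_Qp hF H, hz0]
    norm_num
    omega
  set c := Nat.card (Cim hF H) with hc
  have hc80 : c ∣ 80 := card_Cim_dvd hF H
  have hsub := sub_le hF (p := 3) hS
  rw [← hc, hk] at hsub
  norm_num at hsub
  obtain ⟨x, C, a, n, -, -, -, -, hrC, hodd, -, hC, ha, hn, hcard, -, -⟩ :=
    sylow_data hF (p := 3) hS (r := 73) (by norm_num) (by norm_num) (by norm_num) (by norm_num)
  rw [card_eq hF (p := 3) hS, hk, ← hc] at hcard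
  norm_num at hcard hC ha
  have hC' : C = 73 ∨ C = 365 := by
    have key : ∀ C ∈ Nat.divisors 730, 73 ∣ C → ¬ 2 ∣ C → C = 73 ∨ C = 365 := by decide +kernel
    exact key C (Nat.mem_divisors.2 ⟨hC, by norm_num⟩) hrC hodd
  have key : ∀ k < 4, ∀ c ∈ Nat.divisors 80, ∀ a ∈ Nat.divisors 72, ∀ C ∈ ({73, 365} : Finset ℕ),
      80 ≤ 3 ^ k * c → C * a ∣ 730 * (3 ^ k * c) → 730 * (3 ^ k * c) / (C * a) % 73 ≠ 1 := by decide +kernel
  have hCa : 0 < C * a := Nat.pos_of_ne_zero fun h => by
    rw [h, mul_zero] at hcard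
    have : 0 < 3 ^ k * c := by omega
    omega
  exact key k (by omega) c (Nat.mem_divisors.2 ⟨hc80, by norm_num⟩) a (Nat.mem_divisors.2 ⟨ha, by norm_num⟩) C
    (by simpa using hC') hsub ⟨n, by rw [← hcard, mul_comm]⟩ (by rw [← hcard, Nat.mul_div_cancel _ hCa]; exact hn)

/-- No root elements. -/
theorem caseB1 {H : Subgroup (G 1 F q)} (hS : Small H) (hq : 3 ≤ q) (hZ : Z0 hF H ≠ ⊥) : False := by
  have hpp : p.Prime := Fact.out
  haveI := charP_Kc hF (p := p)
  haveI := finite_Lim hF H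
  set L := Lim hF H with hLdef
  set z0 := Nat.card (Z0 hF H) with hz0
  have hZt := Z0_ne_top hF (p := p) hS hq
  have hzq : z0 < q := by
    have h1 := AddSubgroup.card_addSubgroup_dvd_card (Z0 hF H)
    rw [(card_fix_skew hF).2] at h1
    refine lt_of_le_of_ne (Nat.le_of_dvd (pos_q hF) h1) fun e => hZt ?_
    exact AddSubgroup.eq_top_of_card_eq _ (e.trans (card_fix_skew hF).2.symm)
  haveI hnt : Nontrivial (Z0 hF H) := (AddSubgroup.nontrivial_iff_ne_bot _).2 hZ
  have hz1 : 1 < z0 := Finite.one_lt_card_iff_nontrivial.2 hnt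
  obtain ⟨i, hi⟩ := z0_pow hF (p := p) (H := H)
  have hi0 : i ≠ 0 := fun e => by rw [hz0, hi, e, pow_zero] at hz1; exact lt_irrefl _ hz1
  choose φ hφi hφL hφf using root_chord hF (p := p) hS
  obtain ⟨z₁, hz₁⟩ := exists_ne (1 : Multiplicative (Z0 hF H))
  have hzL : z0 ∣ Nat.card L := by
    have h := Subgroup.card_dvd_of_le (show (φ none).range ≤ L by
      rintro _ ⟨z, rfl⟩
      exact hφL none z)
    rwa [← Nat.card_congr (MonoidHom.ofInjective (hφi none)).toEquiv, Nat.card_congr Multiplicative.toAdd] at h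
  have hpL : p ∣ Nat.card L := (hi ▸ dvd_pow_self p hi0).trans hzL
  have hinj : Function.Injective (fun o => φ o z₁) := fun o o' e => chordCoord_injective hF (by
    have h1 := (hφf o z₁ hz₁).1
    simp only at e
    rw [e, (hφf o' z₁ hz₁).1] at h1
    exact (Set.singleton_eq_singleton_iff.1 h1).symm)
  have hu1 : ∀ o, φ o z₁ ≠ 1 := fun o e => hz₁ (hφi o (e.trans (map_one (φ o)).symm))
  rcases classification p L with ⟨x, hx⟩ | ⟨n, -, hpn, hN, -⟩ | ⟨h5, hN, -⟩ | ⟨h5, hN, -⟩ | ⟨h2, h5, hN, ⟨e⟩⟩ |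
    ⟨f, hf, g, hg⟩
  · have h1 : ∀ o, x = chordCoord hF o := fun o => by
      have h : x ∈ fix (φ o z₁) := hx _ (hφL o z₁)
      rwa [(hφf o z₁ hz₁).1, Set.mem_singleton_iff] at h
    haveI : Subsingleton (Option (Skew hF)) := ⟨fun o o' => chordCoord_injective hF ((h1 o).symm.trans (h1 o'))⟩
    have h := Finite.card_le_one_iff_subsingleton.2 (inferInstance : Subsingleton (Option (Skew hF)))
    rw [card_chord hF] at h
    omega
  · rw [hN] at hpL hzL
    have hp2 : p = 2 := (Nat.prime_dvd_prime_iff_eq hpp Nat.prime_two).1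
      ((hpp.dvd_mul.1 hpL).resolve_right hpn)
    refine b1_two hF (p := p) hS hq hp2 ?_
    have hcop : Nat.Coprime z0 n := by
      rw [hz0, hi]
      exact Nat.Coprime.pow_left _ ((Nat.Prime.coprime_iff_not_dvd hpp).2 hpn)
    have := Nat.le_of_dvd two_pos (hcop.dvd_of_dvd_mul_right hzL)
    omega
  · rw [hN] at hpL
    have key : ∀ n ∈ Nat.divisors 12, n.Prime → n < 5 := by decide +kernel
    have := key p (Nat.mem_divisors.2 ⟨hpL, by norm_num⟩) hpp
    omega
  · rw [hN] at hpL
    have key : ∀ n ∈ Nat.divisors 24, n.Prime → n < 5 := by decide +kernel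
    have := key p (Nat.mem_divisors.2 ⟨hpL, by norm_num⟩) hpp
    omega
  · rw [hN] at hpL hzL
    have hp3 : p = 3 := by
      have hp60 : p ∈ Nat.divisors 60 := Nat.mem_divisors.2 ⟨hpL, by norm_num⟩
      have key : ∀ n ∈ Nat.divisors 60, n.Prime → n = 2 ∨ n = 3 ∨ n = 5 := by decide +kernel
      have := key p hp60 hpp
      omega
    subst hp3
    have hz3 : z0 = 3 := by
      have hi1 : i ≤ 1 := by
        by_contra hlt
        have h9 : 3 ^ 2 ∣ 60 := (pow_dvd_pow 3 (not_le.1 hlt)).trans (hi ▸ hzL)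
        norm_num at h9
      rw [hz0, hi, show i = 1 by omega, pow_one]
    have hq20 : q + 1 ≤ 20 := by
      have hT : ∀ o, e ⟨_, hφL o z₁⟩ ^ 3 = 1 ∧ e ⟨_, hφL o z₁⟩ ≠ 1 := fun o => by
        refine ⟨?_, fun h => hu1 o ?_⟩
        · rw [pow_equiv_eq_one, Subtype.ext_iff]
          exact (hφf o z₁ hz₁).2
        · exact congrArg Subtype.val (e.injective (h.trans (map_one e).symm))
      have h := Nat.card_le_card_of_injective
        (fun o => (⟨_, Finset.mem_filter.2 ⟨Finset.mem_univ _, hT o⟩⟩ :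
          {g // g ∈ Finset.univ.filter fun g : alternatingGroup (Fin 5) => g ^ 3 = 1 ∧ g ≠ 1}))
        (fun o o' h => hinj (congrArg Subtype.val (e.injective (congrArg Subtype.val h))))
      rwa [card_chord hF, Nat.card_eq_fintype_card, Fintype.card_coe, altFive_three] at h
    obtain ⟨k, hk0, hk⟩ := exists_q_pow (p := 3) hF
    have hk3 : k < 3 := by
      by_contra hlt
      have := Nat.pow_le_pow_right (show 0 < 3 by norm_num) (not_lt.1 hlt)
      omega
    have hq9 : q = 9 := by interval_cases k <;> omega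
    exact b1_three hF (p := 3) hS hq9 rfl hz3 (card_abar_sq_le hF hZt)
  · haveI := finite_frobFix (K := Kc F) p hf
    set φE := (frobFix (K := Kc F) p f).subtype with hφE
    have hle : conjH g L ≤ pglImage φE := by
      rcases hg with h | ⟨-, h⟩ <;> rw [h]
      rintro _ ⟨x, rfl⟩
      exact ⟨_, rfl⟩
    have hrat : ∀ o, ∃ w : OnePoint (frobFix (K := Kc F) p f), g • chordCoord hF o = OnePoint.map φE w := by
      intro o
      refine rational_fix p φE (g := g * φ o z₁ * g⁻¹) (hle (mem_conjH (hφL o z₁))) ?_ ?_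
      · rw [conj_pow, (hφf o z₁ hz₁).2, mul_one, mul_inv_cancel]
      · rw [fix_conj, (hφf o z₁ hz₁).1, Set.image_singleton]
    choose w hw using hrat
    have hqf : q ≤ p ^ f := by
      have hwi : Function.Injective w := fun o o' e => chordCoord_injective hF (MulAction.injective g
        ((hw o).trans ((congrArg _ e).trans (hw o').symm)))
      haveI : Finite (OnePoint (frobFix (K := Kc F) p f)) := inferInstanceAs (Finite (Option _))
      have h := Nat.card_le_card_of_injective w hwi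
      rw [card_chord hF, show Nat.card (OnePoint (frobFix (K := Kc F) p f)) = p ^ f + 1 by
        change Nat.card (Option _) = _
        rw [Finite.card_option, card_frobFix p hf]] at h
      omega
    have hdiv : p ^ f ∣ Nat.card (conjH g L) := by
      rcases hg with h | ⟨hp2, h⟩ <;> rw [h]
      · rw [← Nat.card_congr (pglImageEquiv φE).toEquiv, CfsgLib.Linear.PSLTwo.card_pgl, card_frobFix p hf]; exact dvd_mul_right _ _
      · have h2 := CfsgLib.Linear.PSLTwo.two_mul_card_psl (frobFix (K := Kc F) p f)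
          (by rw [card_frobFix p hf]; exact (hpp.odd_of_ne_two hp2).pow)
        rw [← Nat.card_congr (pslImageEquiv φE).toEquiv]
        rw [card_frobFix p hf] at h2
        refine (Nat.Coprime.pow_left f ?_).dvd_of_dvd_mul_left (show p ^ f ∣ 2 * _ from h2.symm ▸ dvd_mul_right _ _)
        exact (Nat.coprime_primes hpp Nat.prime_two).2 hp2
    have hLd : p ^ f ∣ Nat.card ↥(H ⊓ L0 F q) := by
      rw [Subgroup.card_map_of_injective (MulAut.conj g).injective] at hdiv
      exact hdiv.trans (card_Lim_dvd hF H)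
    obtain ⟨S, hScard⟩ := Sylow.exists_subgroup_card_pow_prime p hLd
    set S' := S.map (H ⊓ L0 F q).subtype with hS'
    have hS'c : Nat.card S' = p ^ f := by rw [hS', Subgroup.card_map_of_injective (Subgroup.subtype_injective _), hScard]
    obtain ⟨P, hP⟩ := exists_fix (p := p) hF (IsPGroup.of_card hS'c)
    obtain ⟨h, hhH, rfl⟩ := transitive hF (p := p) hS P
    have hz : ∀ y : S', ∃ z : Z0 hF H, h⁻¹ * (y : G3) * h = zE hF (z : Skew hF) := by
      intro y
      by_cases hy1 : (y : G3) = 1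
      · exact ⟨0, by rw [hy1, mul_one, inv_mul_cancel, AddSubgroup.coe_zero, zE_zero]⟩
      have hyI : (y : G3) ∈ H ⊓ L0 F q := by
        obtain ⟨y', -, e⟩ := y.2
        rw [← e]; exact y'.2
      have hB : h⁻¹ * (y : G3) * h ∈ Bor hF := MulAction.mem_stabilizer_iff.2 (by
        rw [mul_smul, mul_smul, hP _ y.2, inv_smul_smul])
      obtain ⟨j, hj⟩ := IsPGroup.of_card hS'c y
      have hj' : (h⁻¹ * (y : G3) * h) ^ p ^ j = 1 := by
        have e := conj_pow (i := p ^ j) (a := h⁻¹) (b := (y : G3))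
        rw [inv_inv] at e
        rw [e, show (y : G3) ^ p ^ j = 1 by simpa using congrArg Subtype.val hj, mul_one, inv_mul_cancel]
      have hR := mem_Rad_of_pPow hF (p := p) hB hj'
      obtain ⟨ν, hν⟩ := hyI.2
      have hw' : hh (suMat h⁻¹ *ᵥ wv) (suMat h⁻¹ *ᵥ wv) ≠ 0 := by
        rw [su_preserves, herm_ww hF]; exact one_ne_zero
      have hfx : suMat (h⁻¹ * (y : G3) * h) *ᵥ (suMat h⁻¹ *ᵥ wv) = ν • (suMat h⁻¹ *ᵥ wv) := by
        rw [Matrix.mulVec_mulVec, ← suMat_mul, mul_inv_cancel_right, suMat_mul, ← Matrix.mulVec_mulVec, hν,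
          Matrix.mulVec_smul]
      have hne1 : h⁻¹ * (y : G3) * h ≠ 1 := fun e => hy1 (by
        calc (y : G3) = h * (h⁻¹ * y * h) * h⁻¹ := by group
          _ = 1 := by rw [e]; group)
      obtain ⟨-, hg0⟩ := rad_fix_line hF hR hne1 hw' hfx
      obtain ⟨z, hz⟩ := eq_zE_of_gam hF hR hg0
      refine ⟨⟨z, (mem_Z0 hF H).2 ?_⟩, hz⟩
      rw [← hz]
      exact H.mul_mem (H.mul_mem (H.inv_mem hhH) hyI.1) hhH
    choose zf hzf using hz
    have h := Nat.card_le_card_of_injective zf (fun y y' e => Subtype.ext (by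
      have e' := (hzf y).trans (e ▸ (hzf y').symm)
      exact mul_left_cancel (mul_right_cancel e')))
    rw [hS'c, ← hz0] at h
    omega

end CfsgLib.MinIdxU3
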