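import Cfsg.Agent.MinIdxU3.Line

/-!
Finite groups of Moebius transformations with many prescribed fixed points.
-/

set_option autoImplicit false
set_option linter.style.haveILetI false
set_option linter.unusedSectionVars false

namespace CfsgLib.MinIdxU3

open CfsgLib.Dickson

variable {K : Type*} [Field K]

theorem altFour_orders : ∀ g : alternatingGroup (Fin 4), g ^ 2 = 1 ∨ g ^ 3 = 1 := by decide +kernel

theorem symFour_orders : ∀ g : Equiv.Perm (Fin 4), g ^ 2 = 1 ∨ g ^ 3 = 1 ∨ (g ^ 4 = 1 ∧ g ^ 2 ≠ 1) := by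
  decide +kernel

theorem symFour_four :
    (Finset.univ.filter fun g : Equiv.Perm (Fin 4) => g ^ 4 = 1 ∧ g ^ 2 ≠ 1).card = 6 := by decide +kernel

theorem altFive_orders : ∀ g : alternatingGroup (Fin 5), g ^ 2 = 1 ∨ g ^ 3 = 1 ∨ g ^ 5 = 1 := by decide +kernel

theorem altFive_three :
    (Finset.univ.filter fun g : alternatingGroup (Fin 5) => g ^ 3 = 1 ∧ g ≠ 1).card = 20 := by decide +kernel

theorem pow_equiv_eq_one {G M : Type*} [Group G] [Group M] (e : G ≃* M) {g : G} {n : ℕ} :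
    e g ^ n = 1 ↔ g ^ n = 1 := by
  rw [← map_pow]
  exact map_eq_one_iff e e.injective

/-- Without unipotent elements the group is tetrahedral, octahedral or icosahedral. -/
theorem tame_chord [DecidableEq K] [IsAlgClosed K] (L : Subgroup (PGL2 K)) [Finite L] (hU : unipotents L = ∅)
    {ι : Type*} [Finite ι] (f : ι → OnePoint K) (hf : Function.Injective f) (hn : 3 ≤ Nat.card ι) {m : ℕ}
    (hm : 3 ≤ m) (hl : ∀ i, ∃ l ∈ L, l • f i = f i ∧ ∀ j : ℕ, l ^ j = 1 → m ∣ j) :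
    (Nat.card L = 12 ∧ m ∣ 3) ∨ (Nat.card L = 24 ∧ (m ∣ 3 ∨ (m ∣ 4 ∧ Nat.card ι ≤ 12))) ∨
      (Nat.card L = 60 ∧ (m ∣ 3 ∨ m ∣ 5)) := by
  classical
  haveI := Fintype.ofFinite ι
  rw [Nat.card_eq_fintype_card (α := ι)] at hn ⊢
  choose l hlL hlfix hlord using hl
  have h2 : ∀ i, l i ^ 2 ≠ 1 := fun i h => by
    have := Nat.le_of_dvd two_pos (hlord i 2 h); omega
  have hne : ∀ i, l i ≠ 1 := fun i h => h2 i (by rw [h, one_pow])
  obtain ⟨i0⟩ : Nonempty ι := Fintype.card_pos_iff.1 (by omega)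
  have third : ∀ a b : OnePoint K, ∃ i, f i ≠ a ∧ f i ≠ b := by
    intro a b
    by_contra hc
    push Not at hc
    have hsub : Finset.univ.image f ⊆ {a, b} := fun y hy => by
      obtain ⟨i, -, rfl⟩ := Finset.mem_image.1 hy
      rw [Finset.mem_insert, Finset.mem_singleton]
      exact (em (f i = a)).imp id (hc i)
    have := (Finset.card_le_card hsub).trans Finset.card_le_two
    rw [Finset.card_image_of_injective _ hf, Finset.card_univ] at this
    omega
  have hfix3 : ∀ i {a b : OnePoint K}, a ≠ b → f i ≠ a → f i ≠ b → l i • a = a → l i • b = b → False :=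
    fun i a b hab ha hb h1 h2' => hne i (eq_one_of_fix_three hab ha.symm hb.symm h1 h2' (hlfix i))
  rcases tame L hU with ⟨x, y, hxy, h⟩ | ⟨x, y, hxy, hpres, -, -⟩ | ⟨hN, x, -, hs⟩ | ⟨hN, x, -, hs⟩ |
    ⟨hN, x, -, hs⟩
  · obtain ⟨i, hi1, hi2⟩ := third x y
    exact (hfix3 i hxy hi1 hi2 (h _ (hlL i)).1 (h _ (hlL i)).2).elim
  · obtain ⟨i, hi1, hi2⟩ := third x y
    rcases hpres _ (hlL i) with h | h
    · exact (hfix3 i hxy hi1 hi2 h.1 h.2).elim
    · exact absurd ((pow_two _).trans (sq_eq_one_of_swap hxy h.1 h.2)) (h2 i)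
  · obtain ⟨e⟩ := a4_of_stab L hN x hs
    refine Or.inl ⟨hN, ?_⟩
    rcases altFour_orders (e ⟨l i0, hlL i0⟩) with h | h <;> rw [pow_equiv_eq_one, Subtype.ext_iff] at h
    · exact absurd h (h2 i0)
    · exact hlord i0 3 h
  · obtain ⟨e⟩ := s4_of_stab L hN x hs
    refine Or.inr (Or.inl ⟨hN, ?_⟩)
    by_cases h3 : m ∣ 3
    · exact Or.inl h3
    have hall : ∀ i, e ⟨l i, hlL i⟩ ^ 4 = 1 ∧ e ⟨l i, hlL i⟩ ^ 2 ≠ 1 := by
      intro i
      rcases symFour_orders (e ⟨l i, hlL i⟩) with h | h | h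
      · rw [pow_equiv_eq_one, Subtype.ext_iff] at h; exact absurd h (h2 i)
      · rw [pow_equiv_eq_one, Subtype.ext_iff] at h; exact absurd (hlord i 3 h) h3
      · exact h
    refine Or.inr ⟨hlord i0 4 ?_, ?_⟩
    · have h := (hall i0).1
      rw [pow_equiv_eq_one, Subtype.ext_iff] at h
      exact h
    · let T := Finset.univ.filter fun g : Equiv.Perm (Fin 4) => g ^ 4 = 1 ∧ g ^ 2 ≠ 1
      have := Finset.card_le_mul_card_image_of_maps_to (s := (Finset.univ : Finset ι)) (t := T)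
        (f := fun i => e ⟨l i, hlL i⟩) (fun i _ => Finset.mem_filter.2 ⟨Finset.mem_univ _, hall i⟩) 2 ?_
      · rw [symFour_four, Finset.card_univ] at this; omega
      intro g hg
      by_contra hcard
      obtain ⟨a, b, c, ha, hb, hc, hab, hac, hbc⟩ := Finset.two_lt_card_iff.1 (not_le.1 hcard)
      simp only [Finset.mem_filter, Finset.mem_univ, true_and] at ha hb hc
      have e1 : l b = l a := congrArg Subtype.val (e.injective (hb.trans ha.symm))
      have e2 : l c = l a := congrArg Subtype.val (e.injective (hc.trans ha.symm))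
      exact hfix3 a (hf.ne hbc) (hf.ne hab) (hf.ne hac) (e1 ▸ hlfix b) (e2 ▸ hlfix c)
  · obtain ⟨e⟩ := a5_of_stab L hN x hs
    refine Or.inr (Or.inr ⟨hN, ?_⟩)
    rcases altFive_orders (e ⟨l i0, hlL i0⟩) with h | h | h <;> rw [pow_equiv_eq_one, Subtype.ext_iff] at h
    · exact absurd h (h2 i0)
    · exact Or.inl (hlord i0 3 h)
    · exact Or.inr (hlord i0 5 h)

end CfsgLib.MinIdxU3
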