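import Cfsg.Agent.MinIdxU3.Global
import Cfsg.Agent.Unitary.SUThreeInvol
import Mathlib.GroupTheory.Transfer
import Mathlib.GroupTheory.GroupAction.Quotient
import Mathlib.Data.Fintype.Sigma
import Mathlib.Algebra.BigOperators.Group.Finset.Basic

/-!
Elements fixing isotropic points, and the Sylow arithmetic of the large primes of a small subgroup.
-/

set_option autoImplicit false
set_option linter.style.haveILetI false
set_option linter.unusedSectionVars false

namespace CfsgLib.MinIdxU3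

open Matrix CfsgLib.Unitary CfsgLib.Forms CfsgLib.MinIdxPSU

variable {F : Type*} [Field F] [Finite F] {q : ℕ} (hF : Nat.card F = q ^ 2)

local notation "hh" => Cfsg.hermForm (1 + 1 + 1) F q
local notation "V3" => Fin (1 + 1 + 1) → F
local notation "G3" => G 1 F q

include hF

/-- Two orthogonal isotropic vectors are dependent. -/
theorem dep_of_orth {v y : V3} (hv : v ≠ 0) (h0 : hh v v = 0) (hy : hh y y = 0) (hyv : hh y v = 0) :
    ∃ a : F, y = a • v := by
  obtain ⟨g, hg⟩ := pt_cases hF (pt hF v hv h0)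
  rw [P0, smul_pt, pt_eq_iff] at hg
  obtain ⟨a, ha⟩ := hg
  have h1 : hh (suMat g⁻¹ *ᵥ y) (suMat g⁻¹ *ᵥ y) = 0 := (su_preserves _ _ _).trans hy
  have h2 : hh (suMat g⁻¹ *ᵥ y) (ev hF) = 0 := by
    rw [← su_preserves g, Matrix.mulVec_mulVec, ← suMat_mul, mul_inv_cancel, suMat_one, Matrix.one_mulVec,
      ← ha, herm_smul_right hF, hyv, mul_zero]
  obtain ⟨d, hd⟩ : ∃ d, suMat g⁻¹ *ᵥ y = d • ev hF := ⟨_, iso_perp_ev hF h1 h2⟩
  refine ⟨d * a, ?_⟩
  have := congrArg (suMat g *ᵥ ·) hd
  simp only [Matrix.mulVec_mulVec, ← suMat_mul, mul_inv_cancel, suMat_one, Matrix.one_mulVec,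
    Matrix.mulVec_smul] at this
  rw [this, ← ha, smul_smul]

theorem isScalar_central {y : G3} {a : F} (h : ∀ z : V3, suMat y *ᵥ z = a • z) : y ∈ Subgroup.center G3 := by
  refine (mem_center_SU_iff hF (by norm_num)).2 ⟨a, Matrix.ext_iff_smul.2 fun z => ?_⟩
  rw [Matrix.smul_eq_mulVec, Matrix.smul_eq_mulVec, Matrix.smul_mulVec, Matrix.one_mulVec]
  exact h z

section moves

variable {x : G 1 F q} {r : ℕ} (hr : r.Prime) (hord : orderOf x = r) (hrq : q + 1 < r)
  (hfix : ∀ P : IsoPt (1 + 1 + 1) F q, x • P ≠ P)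

include hr hord hrq hfix

theorem orbit_injective (P : IsoPt (1 + 1 + 1) F q) : Function.Injective (fun i : Fin r => x ^ (i : ℕ) • P) := by
  have key : ∀ i j : ℕ, i < j → j < r → x ^ i • P ≠ x ^ j • P := fun i j hij hj he => by
    have hcop : (j - i).Coprime r :=
      ((Nat.Prime.coprime_iff_not_dvd hr).2 fun hd => absurd (Nat.le_of_dvd (by omega) hd) (by omega)).symm
    rw [show j = i + (j - i) by omega, pow_add, mul_smul] at he
    have h1 : x ^ (j - i) • P = P := (MulAction.injective (x ^ i) he).symm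
    obtain ⟨m, hm⟩ := exists_pow_eq_self_of_coprime (x := x) (n := j - i) (hord ▸ hcop)
    refine hfix P ?_
    conv_lhs => rw [← hm]
    exact (MulAction.mem_stabilizer_iff.1 (pow_mem (MulAction.mem_stabilizer_iff.2 h1) m))
  intro i j h
  rcases lt_trichotomy (i : ℕ) j with h' | h' | h'
  · exact absurd h (key _ _ h' j.2)
  · exact Fin.ext h'
  · exact absurd h.symm (key _ _ h' i.2)

/-- Three successive images of an isotropic vector span the space. -/
theorem moves_span {v : V3} (hv : v ≠ 0) (h0 : hh v v = 0) :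
    Submodule.span F (Set.range ![v, suMat x *ᵥ v, suMat x *ᵥ (suMat x *ᵥ v)]) = ⊤ := by
  set w := suMat x *ᵥ v with hw
  have hwv : ∀ a : F, w ≠ a • v := fun a e => hfix (pt hF v hv h0) (by
    rw [smul_pt, pt_eq_iff]
    exact ⟨a, e.symm⟩)
  have hh0 : hh v w ≠ 0 := fun e => by
    obtain ⟨a, ha⟩ := dep_of_orth hF (su_mulVec_ne_zero x hv) ((su_preserves _ _ _).trans h0) h0 e
    rcases eq_or_ne a 0 with rfl | ha0
    · exact hv (by rw [ha, zero_smul])
    · exact hwv a⁻¹ (by rw [ha, smul_smul, inv_mul_cancel₀ ha0, one_smul])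
  refine LinearIndependent.span_eq_top_of_card_eq_finrank ?_ (by simp)
  rw [Fintype.linearIndependent_iff]
  intro g hg
  simp only [Fin.sum_univ_three, Matrix.cons_val] at hg
  have h2 : g 2 = 0 := by
    by_contra h2
    have hspan : ∀ i : ℕ, ∃ a b : F, suMat (x ^ i) *ᵥ v = a • v + b • w := by
      intro i
      induction i with
      | zero => exact ⟨1, 0, by rw [pow_zero, suMat_one, Matrix.one_mulVec, one_smul, zero_smul, add_zero]⟩
      | succ i ih =>
        obtain ⟨a, b, hab⟩ := ih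
        have hxw : suMat x *ᵥ w = (-(g 2)⁻¹ * g 0) • v + (-(g 2)⁻¹ * g 1) • w := by
          have e : suMat x *ᵥ w = (g 2)⁻¹ • (g 2 • (suMat x *ᵥ w)) := by
            rw [smul_smul, inv_mul_cancel₀ h2, one_smul]
          rw [e, eq_neg_of_add_eq_zero_right hg]
          module
        refine ⟨b * (-(g 2)⁻¹ * g 0), a + b * (-(g 2)⁻¹ * g 1), ?_⟩
        rw [pow_succ', suMat_mul, ← Matrix.mulVec_mulVec, hab, Matrix.mulVec_add, Matrix.mulVec_smul,
          Matrix.mulVec_smul, hxw, ← hw]
        module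
    choose a b hab using hspan
    have hne : ∀ i : ℕ, a i • v + b i • w ≠ 0 := fun i => hab i ▸ su_mulVec_ne_zero _ hv
    have hsk : ∀ i : ℕ, b i ≠ 0 → a i / b i * hh v w ∈ Skew hF := by
      intro i hb
      have h := su_preserves (x ^ i) v v
      rw [hab, h0] at h
      simp only [herm_add_left, herm_add_right hF, herm_smul_left, herm_smul_right hF, h0,
        show hh w w = 0 from (su_preserves _ _ _).trans h0, herm_swap hF v w] at h
      rw [mem_skew_iff, mul_pow, div_pow]
      have : b i ^ q ≠ 0 := pow_ne_zero _ hb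
      field_simp
      linear_combination h
    classical
    let f : Fin r → Option (Skew hF) := fun i =>
      if hb : b i = 0 then none else some ⟨_, hsk i hb⟩
    have hf : Function.Injective f := by
      intro i j hij
      refine orbit_injective hF hr hord hrq hfix (pt hF v hv h0) ?_
      change x ^ (i : ℕ) • pt hF v hv h0 = x ^ (j : ℕ) • pt hF v hv h0
      rw [smul_pt, smul_pt, pt_eq_iff]
      simp only [f] at hij
      rw [hab, hab]
      by_cases hi : b i = 0 <;> by_cases hj : b j = 0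
      · refine ⟨a i / a j, ?_⟩
        have : a j ≠ 0 := fun e => hne j (by rw [e, hj, zero_smul, zero_smul, add_zero])
        rw [hi, hj, zero_smul, add_zero, add_zero, smul_smul, div_mul_cancel₀ _ this]
      · rw [dif_pos hi, dif_neg hj] at hij
        exact absurd hij (by simp)
      · rw [dif_neg hi, dif_pos hj] at hij
        exact absurd hij (by simp)
      · rw [dif_neg hi, dif_neg hj, Option.some.injEq, Subtype.mk.injEq] at hij
        have he : a i / b i = a j / b j := mul_right_cancel₀ hh0 hij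
        refine ⟨b i / b j, ?_⟩
        rw [smul_add, smul_smul, smul_smul]
        congr 2 <;> field_simp at he ⊢
        linear_combination -he
    have h3 := Nat.card_le_card_of_injective f hf
    rw [Nat.card_fin, Finite.card_option, (card_fix_skew hF).2] at h3
    omega
  rw [h2, zero_smul, add_zero] at hg
  have h1 : g 1 = 0 := by
    by_contra h1
    refine hwv (-(g 1)⁻¹ * g 0) ?_
    have e : w = (g 1)⁻¹ • (g 1 • w) := by rw [smul_smul, inv_mul_cancel₀ h1, one_smul]
    rw [e, eq_neg_of_add_eq_zero_right hg]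
    module
  rw [h1, zero_smul, add_zero] at hg
  intro i
  fin_cases i
  · exact (smul_eq_zero.1 hg).resolve_right hv
  · exact h1
  · exact h2

/-- What commutes with `x` and fixes a point is central. -/
theorem central_of_commute_fix {y : G3} (hc : y * x = x * y) {P : IsoPt (1 + 1 + 1) F q} (hP : y • P = P) :
    y ∈ Subgroup.center G3 := by
  obtain ⟨v, hv, h0, rfl⟩ := exists_pt hF P
  rw [smul_pt, pt_eq_iff] at hP
  obtain ⟨a, ha⟩ := hP
  refine isScalar_central hF (a := a) fun z => ?_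
  have hz : z ∈ Submodule.span F (Set.range ![v, suMat x *ᵥ v, suMat x *ᵥ (suMat x *ᵥ v)]) := by
    rw [moves_span hF hr hord hrq hfix hv h0]
    exact Submodule.mem_top
  have step : ∀ u : V3, suMat y *ᵥ u = a • u → suMat y *ᵥ (suMat x *ᵥ u) = a • (suMat x *ᵥ u) := fun u hu => by
    rw [Matrix.mulVec_mulVec, ← suMat_mul, hc, suMat_mul, ← Matrix.mulVec_mulVec, hu, Matrix.mulVec_smul]
  induction hz using Submodule.span_induction with
  | mem u hu =>
    obtain ⟨i, rfl⟩ := hu
    fin_cases i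
    · exact ha.symm
    · exact step v ha.symm
    · exact step _ (step v ha.symm)
  | zero => rw [Matrix.mulVec_zero, smul_zero]
  | add u u' _ _ hu hu' => rw [Matrix.mulVec_add, hu, hu', smul_add]
  | smul c u _ hu => rw [Matrix.mulVec_smul, hu, smul_comm]

end moves

section pgroup

variable {p : ℕ} [Fact p.Prime] [CharP F p]

include p

/-- An involution fixes an isotropic point. -/
theorem invol_fix {y : G3} (h2 : y * y = 1) : ∃ P : IsoPt (1 + 1 + 1) F q, y • P = P := by
  by_cases hy : y = 1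
  · exact ⟨P0 hF, by rw [hy, one_smul]⟩
  by_cases hp : p = 2
  · subst hp
    obtain ⟨P, hP⟩ := exists_fix (p := 2) hF (Q := Subgroup.zpowers y) (fun ⟨z, k, hz⟩ => ⟨1, Subtype.ext (by
      change z ^ 2 ^ 1 = 1
      rw [← hz, pow_one, pow_two, ← Commute.mul_zpow (Commute.refl y), h2, _root_.one_zpow])⟩)
    exact ⟨P, hP y (Subgroup.mem_zpowers y)⟩
  have hq : Odd q := by
    obtain ⟨e, -, he⟩ := exists_q_pow (p := p) hF
    exact he ▸ ((Fact.out : p.Prime).odd_of_ne_two hp).pow
  have hww : Cfsg.hermForm 3 F q (wv (F := F)) wv = 1 := herm_ww hF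
  obtain ⟨g, hg⟩ := SUThree.exists_conj hF hq (t := SUThree.refl hF (wv (F := F))) (x := y)
    (SUThree.refl_ne_one hF hq hww) (SUThree.refl_sq hF hww) hy h2
  refine ⟨g • P0 hF, ?_⟩
  rw [← hg, mul_smul, mul_smul, inv_smul_smul]
  congr 1
  rw [P0, smul_pt, pt_eq_iff]
  refine ⟨-1, ?_⟩
  rw [SUThree.refl_mulVec hF hww (ev hF), show Cfsg.hermForm 3 F q (ev hF) (wv (F := F)) = 0 from herm_ew hF,
    mul_zero, zero_smul, add_zero, neg_one_smul]

/-- The arithmetic of a large prime. -/
theorem sylow_data {H : Subgroup (G 1 F q)} (hS : Small H) {r : ℕ} (hr : r.Prime) (hrq : q + 1 < r)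
    (hrd : r ∣ q ^ 3 + 1) (hr2 : ¬ r * r ∣ q ^ 3 + 1) :
    ∃ (x : G3) (C a n : ℕ), x ∈ H ∧ orderOf x = r ∧ (∀ P : IsoPt (1 + 1 + 1) F q, x • P ≠ P) ∧
      C = Nat.card ↥(H ⊓ Subgroup.centralizer {x}) ∧ r ∣ C ∧ ¬ 2 ∣ C ∧ Nat.gcd 3 (q + 1) ∣ C ∧
      C ∣ (q ^ 3 + 1) * Nat.gcd 3 (q + 1) ∧ a ∣ r - 1 ∧ n % r = 1 ∧ n * (C * a) = Nat.card H ∧
      (2 ∣ a → ∃ t ∈ H, t * t = 1 ∧ t ≠ 1 ∧ t * x * t⁻¹ = x⁻¹) ∧
      (a = 1 → ∀ y ∈ H, y * x * y⁻¹ ∈ Subgroup.zpowers x → y * x = x * y) := by
  haveI : Fact r.Prime := ⟨hr⟩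
  haveI := finite_isoPt hF
  have hcard := card_eq hF (p := p) hS
  have hrpos := pos_q hF
  have hB : ¬ r ∣ q ^ 3 * (q ^ 2 - 1) := by
    intro h
    rw [show q ^ 2 - 1 = (q + 1) * (q - 1) by rw [← Nat.sq_sub_sq, one_pow]] at h
    rcases (Nat.Prime.dvd_mul hr).1 h with h | h
    · have := Nat.le_of_dvd hrpos (hr.dvd_of_dvd_pow h); omega
    rcases (Nat.Prime.dvd_mul hr).1 h with h | h
    · have := Nat.le_of_dvd (by omega) h; omega
    · have := Nat.le_of_dvd (by have := two_le_q hF; omega) h; omega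
  have hQc : ¬ r ∣ Nat.card (Qp hF H) * Nat.card (Cim hF H) := fun h => hB (by
    rw [← index_mul hF (p := p) hS]
    exact h.mul_left _)
  have hrH : r ∣ Nat.card H := hcard ▸ hrd.mul_right _
  obtain ⟨x, hx⟩ := exists_prime_orderOf_dvd_card' (G := H) r hrH
  have hxo : orderOf (x : G3) = r := (Subgroup.orderOf_coe x).trans hx
  have hfix : ∀ P : IsoPt (1 + 1 + 1) F q, (x : G3) • P ≠ P := by
    intro P hP
    obtain ⟨h, hhH, rfl⟩ := transitive hF (p := p) hS P
    apply hB
    rw [← index_mul hF (p := p) hS, ← card_HB hF H]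
    refine Dvd.dvd.mul_left ?_ _
    have hmem : h⁻¹ * (x : G3) * h ∈ H ⊓ Bor hF :=
      ⟨H.mul_mem (H.mul_mem (H.inv_mem hhH) x.2) hhH, MulAction.mem_stabilizer_iff.2 (by
        rw [mul_smul, mul_smul, hP, inv_smul_smul])⟩
    have := Subgroup.orderOf_dvd_natCard _ hmem
    have ho : orderOf (h⁻¹ * (x : G3) * h) = r := by
      have e := (MulAut.conj h⁻¹).orderOf_eq (x : G3)
      rw [MulAut.conj_apply, inv_inv] at e
      rw [e, hxo]
    rwa [ho] at this
  set S : Subgroup H := Subgroup.zpowers x with hSdef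
  have hfac : (Nat.card H).factorization r = 1 := by
    refine le_antisymm ?_ ((hr.dvd_iff_one_le_factorization Nat.card_pos.ne').1 hrH)
    by_contra hlt
    have h2 : r ^ 2 ∣ Nat.card H := (hr.pow_dvd_iff_le_factorization Nat.card_pos.ne').2 (by omega)
    rw [hcard, pow_two] at h2
    exact hr2 ((Nat.Coprime.mul_left ((Nat.Prime.coprime_iff_not_dvd hr).2 hQc)
      ((Nat.Prime.coprime_iff_not_dvd hr).2 hQc)).dvd_of_dvd_mul_right h2)
  have hSc : Nat.card S = r ^ (Nat.card H).factorization r := by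
    rw [hfac, pow_one, hSdef, Nat.card_zpowers, hx]
  set T : Sylow r H := Sylow.ofCard S hSc with hT
  set N : Subgroup H := Subgroup.normalizer (S : Set H) with hN
  set C : Subgroup N := S.normalizerMonoidHom.ker with hCdef
  have hCeq : C = (Subgroup.centralizer (S : Set H)).subgroupOf N := Subgroup.normalizerMonoidHom_ker S
  have hle : Subgroup.centralizer (S : Set H) ≤ N := Subgroup.centralizer_le_normalizer _
  have hmemC : ∀ y : H, y ∈ Subgroup.centralizer (S : Set H) ↔ (y : G3) * x = x * y := by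
    intro y
    rw [hSdef, Subgroup.mem_centralizer_iff]
    constructor
    · intro h
      exact (congrArg Subtype.val (h x (Subgroup.mem_zpowers x))).symm
    · rintro h _ ⟨k, rfl⟩
      exact (Commute.zpow_left (show Commute x y from Subtype.ext h.symm) k).eq
  have hCcard : Nat.card C = Nat.card ↥(H ⊓ Subgroup.centralizer {(x : G3)}) := by
    rw [hCeq, Nat.card_congr (Subgroup.subgroupOfEquivOfLe hle).toEquiv]
    exact Nat.card_congr
      { toFun := fun y => ⟨y.1.1, y.1.2, Subgroup.mem_centralizer_singleton_iff.2 ((hmemC y.1).1 y.2)⟩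
        invFun := fun y => ⟨⟨y.1, y.2.1⟩, (hmemC _).2 (Subgroup.mem_centralizer_singleton_iff.1 y.2.2)⟩
        left_inv := fun y => rfl
        right_inv := fun y => rfl }
  set D := H ⊓ Subgroup.centralizer {(x : G3)} with hD
  have hcomm : ∀ y ∈ D, y * (x : G3) = x * y := fun y hy => Subgroup.mem_centralizer_singleton_iff.1 hy.2
  have hcentD : Subgroup.center G3 ≤ D := fun z hz =>
    ⟨hS.center_le hz, Subgroup.mem_centralizer_singleton_iff.2 (Subgroup.mem_center_iff.1 hz _).symm⟩
  have hd : Nat.card (Subgroup.center G3) = Nat.gcd 3 (q + 1) := card_center_SU hF (n := 1 + 1 + 1) (by norm_num)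
  have hsemi : ∀ y ∈ D, ∀ P : IsoPt (1 + 1 + 1) F q, y • P = P → y ∈ Subgroup.center G3 :=
    fun y hy P hP => central_of_commute_fix hF hr hxo hrq hfix (hcomm y hy) hP
  have hfixall : ∀ y ∈ Subgroup.center G3, ∀ P : IsoPt (1 + 1 + 1) F q, y • P = P := by
    intro y hy P
    obtain ⟨v, hv, h0, rfl⟩ := exists_pt hF P
    obtain ⟨a, ha⟩ := (mem_center_SU_iff hF (by norm_num)).1 hy
    rw [smul_pt, pt_eq_iff]
    refine ⟨a, ?_⟩
    change _ = suMat y *ᵥ v
    rw [show suMat y = a • 1 from ha, Matrix.smul_mulVec, Matrix.one_mulVec]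
  have hodd : ¬ 2 ∣ Nat.card D := by
    intro h
    haveI : Fact (Nat.Prime 2) := ⟨Nat.prime_two⟩
    obtain ⟨y, hy⟩ := exists_prime_orderOf_dvd_card' (G := D) 2 h
    have hyo : orderOf (y : G3) = 2 := (Subgroup.orderOf_coe y).trans hy
    obtain ⟨P, hP⟩ := invol_fix hF (p := p) (y := (y : G3)) (by
      rw [← pow_two, ← hyo, pow_orderOf_eq_one])
    have h2 := Subgroup.orderOf_dvd_natCard _ (hsemi _ y.2 P hP)
    rw [hd, hyo] at h2
    exact absurd (h2.trans (Nat.gcd_dvd_left _ _)) (by norm_num)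
  have hdvd : Nat.card D ∣ (q ^ 3 + 1) * Nat.gcd 3 (q + 1) := by
    classical
    haveI := Fintype.ofFinite D
    haveI := Fintype.ofFinite (IsoPt (1 + 1 + 1) F q)
    haveI : Fintype (MulAction.orbitRel.Quotient D (IsoPt (1 + 1 + 1) F q)) := Fintype.ofFinite _
    have hsum := MulAction.sum_card_fixedBy_eq_card_orbits_mul_card_group D (IsoPt (1 + 1 + 1) F q)
    have hval : ∀ y : D, Fintype.card (MulAction.fixedBy (IsoPt (1 + 1 + 1) F q) y) =
        if (y : G3) ∈ Subgroup.center G3 then q ^ 3 + 1 else 0 := by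
      intro y
      rw [← Nat.card_eq_fintype_card]
      split_ifs with h
      · rw [← card_isoPt_three hF]
        exact Nat.card_congr (Equiv.subtypeUnivEquiv fun P => hfixall _ h P)
      · rw [Nat.card_eq_zero]
        exact Or.inl ⟨fun P => h (hsemi _ y.2 P.1 P.2)⟩
    rw [Finset.sum_congr rfl fun y _ => hval y, Finset.sum_ite, Finset.sum_const_zero, add_zero,
      Finset.sum_const, smul_eq_mul, ← Nat.card_eq_fintype_card (α := D)] at hsum
    have hc : (Finset.univ.filter fun y : D => (y : G3) ∈ Subgroup.center G3).card = Nat.gcd 3 (q + 1) := by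
      rw [← hd, ← Fintype.card_subtype, ← Nat.card_eq_fintype_card]
      exact Nat.card_congr (Subgroup.subgroupOfEquivOfLe hcentD).toEquiv
    rw [hc, mul_comm] at hsum
    exact ⟨_, hsum.trans (mul_comm _ _)⟩
  refine ⟨x, Nat.card C, Nat.card S.normalizerMonoidHom.range, N.index, x.2, hxo, hfix, hCcard, ?_, ?_, ?_, ?_,
    ?_, ?_, ?_, ?_, ?_⟩
  · rw [hCcard, ← hxo]
    exact Subgroup.orderOf_dvd_natCard _ ⟨x.2, Subgroup.mem_centralizer_singleton_iff.2 rfl⟩
  · rw [hCcard]; exact hodd
  · rw [hCcard, ← hd]; exact Subgroup.card_dvd_of_le hcentD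
  · rw [hCcard]; exact hdvd
  · have h := Subgroup.card_subgroup_dvd_card S.normalizerMonoidHom.range
    haveI : IsCyclic S := hSdef ▸ inferInstance
    rwa [IsCyclic.card_mulAut, hSc, hfac, pow_one, Nat.totient_prime hr] at h
  · have h := card_sylow_modEq_one r H
    rw [T.card_eq_index_normalizer] at h
    exact (show _ % r = 1 % r from h).trans (Nat.mod_eq_of_lt hr.one_lt)
  · rw [hCdef, ← Subgroup.index_ker, Subgroup.card_mul_index, mul_comm]
    exact N.card_mul_index
  · intro ha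
    haveI : Fact (Nat.Prime 2) := ⟨Nat.prime_two⟩
    have hN2 : 2 ∣ Nat.card N := by
      rw [← C.card_mul_index, hCdef, Subgroup.index_ker]
      exact ha.mul_left _
    obtain ⟨t, ht⟩ := exists_prime_orderOf_dvd_card' (G := N) 2 hN2
    have hto : orderOf ((t : H) : G3) = 2 := by
      rw [Subgroup.orderOf_coe, Subgroup.orderOf_coe, ht]
    have ht2 : ((t : H) : G3) * ((t : H) : G3) = 1 := by rw [← pow_two, ← hto, pow_orderOf_eq_one]
    have htne : ((t : H) : G3) ≠ 1 := fun e => by rw [e, orderOf_one] at hto; omega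
    refine ⟨_, (t : H).2, ht2, htne, ?_⟩
    have hmem : (t : H) * x * (t : H)⁻¹ ∈ S := by
      have := Subgroup.mem_normalizer_iff.1 t.2
      exact (this x).1 (Subgroup.mem_zpowers x)
    obtain ⟨k, hk⟩ := Subgroup.mem_zpowers_iff.1 hmem
    have hk2 : x ^ (k * k - 1) = 1 := by
      have e : x = (t : H) * ((t : H) * x * (t : H)⁻¹) * (t : H)⁻¹ := by
        have h22 : (t : H) * (t : H) = 1 := Subtype.ext ht2
        rw [← mul_assoc, ← mul_assoc, h22, one_mul, mul_assoc, ← _root_.mul_inv_rev, h22, inv_one, mul_one]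
      rw [← hk, ← conj_zpow, ← hk, ← _root_.zpow_mul] at e
      rw [_root_.zpow_sub, ← e, zpow_one, mul_inv_cancel]
    rw [← orderOf_dvd_iff_zpow_eq_one, hx, show k * k - 1 = (k - 1) * (k + 1) by ring] at hk2
    rcases (Nat.prime_iff_prime_int.1 hr).dvd_or_dvd hk2 with h | h
    · exfalso
      have hC : (t : H) ∈ Subgroup.centralizer (S : Set H) := by
        rw [hmemC]
        have : x ^ k = x := by
          rw [← mul_inv_eq_one, ← _root_.zpow_sub_one, ← orderOf_dvd_iff_zpow_eq_one, hx]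
          exact h
        rw [this] at hk
        exact congrArg Subtype.val (eq_mul_inv_iff_mul_eq.1 hk).symm
      refine hodd ?_
      rw [← hto]
      exact Subgroup.orderOf_dvd_natCard _ ⟨(t : H).2, Subgroup.mem_centralizer_singleton_iff.2 ((hmemC _).1 hC)⟩
    · have : x ^ k = x⁻¹ := by
        rw [eq_inv_iff_mul_eq_one, ← _root_.zpow_add_one, ← orderOf_dvd_iff_zpow_eq_one, hx]
        exact h
      rw [this] at hk
      exact congrArg Subtype.val hk.symm
  · intro ha y hy hyx
    haveI := Finite.card_le_one_iff_subsingleton.1 ha.le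
    obtain ⟨k, hk⟩ := Subgroup.mem_zpowers_iff.1 hyx
    have hk' : (⟨y, hy⟩ : H) * x * ⟨y, hy⟩⁻¹ = x ^ k := Subtype.ext (by simpa using hk.symm)
    have hmap : S.map (MulAut.conj (⟨y, hy⟩ : H)).toMonoidHom = S := by
      refine Subgroup.eq_of_le_of_card_ge ?_ (le_of_eq (Subgroup.card_map_of_injective
        (MulAut.conj (⟨y, hy⟩ : H)).injective).symm)
      rw [hSdef, MonoidHom.map_zpowers, Subgroup.zpowers_le]
      exact ⟨k, hk'.symm⟩
    have hyN : (⟨y, hy⟩ : H) ∈ N := by
      rw [hN, Subgroup.mem_normalizer_iff]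
      intro z
      conv_rhs => rw [← hmap]
      exact ⟨fun hz => ⟨z, hz, rfl⟩, fun ⟨w, hw, e⟩ => (MulAut.conj _).injective e ▸ hw⟩
    have hker : (⟨_, hyN⟩ : N) ∈ C := MonoidHom.mem_ker.2 (congrArg Subtype.val
      (Subsingleton.elim (⟨_, ⟨_, rfl⟩⟩ : S.normalizerMonoidHom.range) 1))
    rw [hCeq] at hker
    exact (hmemC _).1 hker

end pgroup

end CfsgLib.MinIdxU3
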