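import Cfsg.Agent.MinIdxU3.Small
import Mathlib.GroupTheory.Sylow

/-!
A subgroup of small index is transitive on the isotropic points and contains no full root group.
-/

set_option autoImplicit false
set_option linter.style.haveILetI false
set_option linter.unusedSectionVars false

namespace CfsgLib.MinIdxU3

open Matrix CfsgLib.Unitary CfsgLib.Forms CfsgLib.MinIdxPSU

variable {F : Type*} [Field F] [Finite F] {q : ℕ} (hF : Nat.card F = q ^ 2)

local notation "hh" => Cfsg.hermForm (1 + 1 + 1) F q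
local notation "V3" => Fin (1 + 1 + 1) → F
local notation "G3" => G 1 F q

include hF

theorem pt_cases (P : IsoPt (1 + 1 + 1) F q) : ∃ g : G3, g • P0 hF = P := by
  haveI := isPretransitive (n := 1 + 1 + 1) hF
  exact MulAction.exists_smul_eq G3 _ _

theorem index_mul_card (H : Subgroup (G 1 F q)) :
    H.index * Nat.card H = q ^ 3 * (q ^ 2 - 1) * (q ^ 3 + 1) := by
  rw [mul_comm, H.card_mul_index, card_G3 hF]

/-- If the stabiliser meets no radical, it is a full torus. -/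
theorem trivial_case {H : Subgroup (G 1 F q)} (hS : Small H) (hQ : Nat.card (Qp hF H) = 1) :
    Nat.card (Cim hF H) = q ^ 2 - 1 ∧ H.index = q ^ 3 ∧ ∀ P, ∃ h ∈ H, h • P0 hF = P := by
  have h1 := le_card_HB_mul_index hF H
  rw [card_HB hF H, hQ, one_mul] at h1
  have h2 := Nat.le_of_dvd (q_sq_sub_pos hF) (card_Cim_dvd hF H)
  have h3 := hS.index_le
  have hpos := q_sq_sub_pos hF
  have hq3 : 0 < q ^ 3 := pow_pos (pos_q hF) 3
  have hC : Nat.card (Cim hF H) = q ^ 2 - 1 := by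
    refine le_antisymm h2 (Nat.le_of_mul_le_mul_left ?_ hq3)
    exact h1.trans ((Nat.mul_le_mul_left _ h3).trans_eq (mul_comm _ _))
  have hI : H.index = q ^ 3 := by
    refine le_antisymm h3 (Nat.le_of_mul_le_mul_right ?_ hpos)
    rwa [hC, mul_comm (q ^ 2 - 1)] at h1
  refine ⟨hC, hI, fun P => ?_⟩
  haveI := finite_isoPt hF
  have horb : Nat.card (MulAction.orbit H (P0 hF)) = q ^ 3 + 1 := by
    have h4 := MulAction.index_stabilizer (G := H) (x := P0 hF)
    rw [← Nat.card_coe_set_eq] at h4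
    have h5 := (MulAction.stabilizer H (P0 hF)).card_mul_index
    have h6 : Nat.card (MulAction.stabilizer H (P0 hF)) = q ^ 2 - 1 := by
      have h8 := card_HB hF H
      rw [hQ, Nat.one_mul, hC] at h8
      refine (Eq.trans ?_ h8)
      exact Nat.card_congr
        { toFun := fun x => ⟨x.1.1, x.1.2, MulAction.mem_stabilizer_iff.1 x.2⟩
          invFun := fun x => ⟨⟨x.1, x.2.1⟩, MulAction.mem_stabilizer_iff.2 (MulAction.mem_stabilizer_iff.1 x.2.2)⟩
          left_inv := fun x => rfl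
          right_inv := fun x => rfl }
    have h7 := index_mul_card hF H
    rw [h6, h4] at h5
    rw [hI, mul_assoc, Nat.mul_left_cancel_iff hq3, ← h5] at h7
    exact Nat.eq_of_mul_eq_mul_left hpos h7
  have huniv : MulAction.orbit H (P0 hF) = Set.univ :=
    Set.eq_of_subset_of_ncard_le (Set.subset_univ _) (by
      rw [Set.ncard_univ, card_isoPt_three hF, ← Nat.card_coe_set_eq, horb]) Set.finite_univ
  obtain ⟨⟨h, hmm'⟩, hP⟩ : P ∈ MulAction.orbit H (P0 hF) := huniv ▸ Set.mem_univ P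
  exact ⟨h, hmm', hP⟩

section pgroup

variable {p : ℕ} [Fact p.Prime] [CharP F p]

include p

/-- A small subgroup is transitive. -/
theorem transitive {H : Subgroup (G 1 F q)} (hS : Small H) (P : IsoPt (1 + 1 + 1) F q) :
    ∃ h ∈ H, h • P0 hF = P := by
  suffices h : ∃ P₁ : IsoPt (1 + 1 + 1) F q, ∀ P, ∃ h ∈ H, h • P₁ = P by
    obtain ⟨P₁, h⟩ := h
    obtain ⟨a, ha, ha'⟩ := h (P0 hF)
    obtain ⟨b, hb, hb'⟩ := h P
    exact ⟨b * a⁻¹, mul_mem hb (inv_mem ha), by rw [← ha', mul_smul, inv_smul_smul, hb']⟩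
  by_cases hA : ∀ g : G3, Nat.card (Qp hF (H.map (MulAut.conj g).toMonoidHom)) ≠ 1
  swap
  · push Not at hA
    obtain ⟨g, hg⟩ := hA
    obtain ⟨-, -, htr⟩ := trivial_case hF (hS.conj g) hg
    refine ⟨g⁻¹ • P0 hF, fun P => ?_⟩
    obtain ⟨h, hhH, hP⟩ := htr (g • P)
    refine ⟨g⁻¹ * h * g, (mem_conj_iff g h).1 hhH, ?_⟩
    rw [mul_smul, mul_smul, smul_inv_smul, hP, inv_smul_smul]
  -- every point is fixed by an element of order a power of `p`
  have hu : ∀ P : IsoPt (1 + 1 + 1) F q, ∃ u ∈ H, u ≠ 1 ∧ (∀ P', u • P' = P' → P' = P) ∧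
      IsPGroup p (Subgroup.zpowers u) := by
    intro P
    obtain ⟨g, rfl⟩ := pt_cases hF P
    haveI : Nontrivial (Qp hF (H.map (MulAut.conj g⁻¹).toMonoidHom)) :=
      Finite.one_lt_card_iff_nontrivial.1 (by
        have h1 := hA g⁻¹
        have h2 : 0 < Nat.card (Qp hF (H.map (MulAut.conj g⁻¹).toMonoidHom)) := Nat.card_pos
        omega)
    obtain ⟨⟨r, hrH, hr⟩, hr1⟩ := exists_ne (1 : Qp hF (H.map (MulAut.conj g⁻¹).toMonoidHom))
    replace hrH := (mem_conj_iff _ _).1 hrH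
    rw [inv_inv] at hrH
    refine ⟨_, hrH, fun e => hr1 (Subtype.ext ?_), fun P' hP' => ?_, ?_⟩
    · change r = 1
      rwa [conj_eq_one_iff] at e
    · rw [← fix_unique hF hr (fun e => hr1 (Subtype.ext e)) (P := g⁻¹ • P') ?_, smul_inv_smul]
      rw [eq_inv_smul_iff, ← mul_smul, ← mul_smul, hP']
    · rw [← MulAut.conj_apply g r, ← MulEquiv.coe_toMonoidHom, ← MonoidHom.map_zpowers]
      exact ((isPGroup_Rad hF).to_le (Subgroup.zpowers_le.2 hr)).map _
  -- each lies in a Sylow subgroup with the same fixed point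
  have hsyl : ∀ P : IsoPt (1 + 1 + 1) F q, ∃ S : Sylow p H, (∀ s ∈ (S : Subgroup H), (s : G3) • P = P) ∧
      ∀ P', (∀ s ∈ (S : Subgroup H), (s : G3) • P' = P') → P' = P := by
    intro P
    obtain ⟨u, huH, -, hfix, hup⟩ := hu P
    have hup' : IsPGroup p (Subgroup.zpowers (⟨u, huH⟩ : H)) := by
      intro ⟨x, k, hx⟩
      obtain ⟨j, hj⟩ := hup ⟨u ^ k, k, rfl⟩
      refine ⟨j, Subtype.ext (Subtype.ext ?_)⟩
      have := congrArg Subtype.val hj
      subst hx
      simpa using this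
    obtain ⟨S, hS'⟩ := hup'.exists_le_sylow
    obtain ⟨P₂, hP₂⟩ := exists_fix hF (S.isPGroup'.map H.subtype)
    have hmem : ∀ s ∈ (S : Subgroup H), (s : G3) • P₂ = P₂ := fun s hs => hP₂ _ ⟨s, hs, rfl⟩
    have hP₂' : P₂ = P := hfix _ (hmem _ (hS' (Subgroup.mem_zpowers _)))
    subst hP₂'
    exact ⟨S, hmem, fun P' hP' => hfix _ (hP' _ (hS' (Subgroup.mem_zpowers _)))⟩
  refine ⟨P0 hF, fun P => ?_⟩
  obtain ⟨S, hS1, -⟩ := hsyl (P0 hF)
  obtain ⟨T, -, hT2⟩ := hsyl P
  obtain ⟨h, rfl⟩ := MulAction.exists_smul_eq H S T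
  refine ⟨h, h.2, hT2 _ fun s hs => ?_⟩
  rw [Sylow.coe_subgroup_smul, Subgroup.mem_pointwise_smul_iff_inv_smul_mem] at hs
  have h1 := hS1 _ hs
  simp only [MulAut.smul_def, MulAut.conj_inv_apply, Subgroup.coe_mul, Subgroup.coe_inv] at h1
  rwa [mul_smul, mul_smul, inv_smul_eq_iff] at h1

/-- The order. -/
theorem card_eq {H : Subgroup (G 1 F q)} (hS : Small H) :
    Nat.card H = (q ^ 3 + 1) * (Nat.card (Qp hF H) * Nat.card (Cim hF H)) := by
  haveI := finite_isoPt hF
  have htr : MulAction.IsPretransitive H (IsoPt (1 + 1 + 1) F q) := by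
    refine ⟨fun P P' => ?_⟩
    obtain ⟨a, ha, rfl⟩ := transitive hF (p := p) hS P
    obtain ⟨b, hb, rfl⟩ := transitive hF (p := p) hS P'
    exact ⟨⟨b * a⁻¹, mul_mem hb (inv_mem ha)⟩, by
      change (b * a⁻¹) • a • P0 hF = _
      rw [mul_smul, inv_smul_smul]⟩
  rw [← (MulAction.stabilizer H (P0 hF)).card_mul_index, MulAction.index_stabilizer_of_transitive,
    card_isoPt_three hF, ← card_HB hF H, mul_comm]
  congr 1
  exact Nat.card_congr
    { toFun := fun x => ⟨x.1.1, x.1.2, MulAction.mem_stabilizer_iff.1 x.2⟩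
      invFun := fun x => ⟨⟨x.1, x.2.1⟩, MulAction.mem_stabilizer_iff.2 (MulAction.mem_stabilizer_iff.1 x.2.2)⟩
      left_inv := fun x => rfl
      right_inv := fun x => rfl }

theorem index_mul {H : Subgroup (G 1 F q)} (hS : Small H) :
    H.index * (Nat.card (Qp hF H) * Nat.card (Cim hF H)) = q ^ 3 * (q ^ 2 - 1) := by
  have h := index_mul_card hF H
  rw [card_eq hF (p := p) hS] at h
  refine Nat.eq_of_mul_eq_mul_right (Nat.succ_pos (q ^ 3)) ?_
  rw [← h, Nat.succ_eq_add_one]; ring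

theorem sub_le {H : Subgroup (G 1 F q)} (hS : Small H) :
    q ^ 2 - 1 ≤ Nat.card (Qp hF H) * Nat.card (Cim hF H) := by
  refine Nat.le_of_mul_le_mul_left ?_ (pow_pos (pos_q hF) 3)
  rw [← index_mul hF (p := p) hS]
  exact Nat.mul_le_mul_right _ hS.index_le

/-- No full root group. -/
theorem Z0_ne_top {H : Subgroup (G 1 F q)} (hS : Small H) (hq : 3 ≤ q) : Z0 hF H ≠ ⊤ := by
  intro htop
  refine hS.ne_top (top_le_iff.1 ?_)
  rw [← tvGroup_eq_top hF (n := 1 + 1 + 1) (by omega) (fun h => by omega)]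
  refine (Subgroup.closure_le _).2 ?_
  rintro A ⟨v, c, hv, hA⟩
  by_cases hv0 : v = 0
  · subst hv0
    have : A = 1 := su_ext fun y => by
      rw [hA, utv_mulVec, smul_zero, add_zero, suMat_one, Matrix.one_mulVec]
    rw [this]
    exact one_mem _
  have hc : c + c ^ q = 0 := by
    by_contra hc
    exact hc ((utv_preserves_iff hF hv0 hv c).1 fun x y => by rw [← hA]; exact su_preserves A x y)
  obtain ⟨h, hhH, hP⟩ := transitive hF (p := p) hS (pt hF v hv0 hv)
  rw [P0, smul_pt, pt_eq_iff] at hP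
  obtain ⟨a, ha⟩ := hP
  have hz : c * (a⁻¹ * a⁻¹ ^ q) ∈ Skew hF := by
    rw [mem_skew_iff, mul_pow, mul_pow, pow_q_q hF]
    linear_combination (a⁻¹ * a⁻¹ ^ q) * hc
  have ha0 : a ≠ 0 := fun e => by
    rw [e, zero_smul] at ha
    exact su_mulVec_ne_zero h (ev_ne_zero hF) ha.symm
  have hmem : (⟨_, hz⟩ : Skew hF) ∈ Z0 hF H := htop ▸ AddSubgroup.mem_top _
  have hz' : zE (k := 1) hF ⟨_, hz⟩ ∈ H := hmem
  have he : A = h * zE (k := 1) hF ⟨_, hz⟩ * h⁻¹ := by
    rw [eq_mul_inv_iff_mul_eq]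
    refine su_ext fun y => ?_
    have hv' : v = a⁻¹ • (suMat h *ᵥ ev hF) := by rw [← ha, smul_smul, inv_mul_cancel₀ ha0, one_smul]
    rw [suMat_mul, suMat_mul, ← Matrix.mulVec_mulVec, ← Matrix.mulVec_mulVec, hA, utv_mulVec, zE_apply hF,
      Matrix.mulVec_add, Matrix.mulVec_smul, hv', herm_smul_right hF, su_preserves, smul_smul]
    congr 2
    ring
  rw [he]
  exact mul_mem (mul_mem hhH hz') (inv_mem hhH)

end pgroup

/-- The translations of a group without full root group are isotropic. -/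
theorem card_abar_sq_le {H : Subgroup (G 1 F q)} (hZ : Z0 hF H ≠ ⊤) :
    Nat.card (abar hF H) ≤ q := by
  obtain ⟨z₀, hz₀⟩ : ∃ z, z ∉ Z0 hF H := by
    by_contra h
    push Not at h
    exact hZ (eq_top_iff.2 fun z _ => h z)
  obtain ⟨c, hc, hc0⟩ : ∃ c ∈ annB (pairZ hF) (psi₁ hF) (Z0 hF H), c ≠ 0 := by
    have h1 := card_annB (pairZ_perfect hF) (Z0 hF H)
    have h2 : 1 < (Z0 hF H).index := by
      rcases Nat.lt_or_ge 1 (Z0 hF H).index with h | h
      · exact h
      · have h0 : (Z0 hF H).index ≠ 0 := AddSubgroup.index_ne_zero_of_finite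
        exact absurd (AddSubgroup.index_eq_one.1 (by omega)) hZ
    rw [← h1] at h2
    haveI := Finite.one_lt_card_iff_nontrivial.1 h2
    obtain ⟨⟨c, hc⟩, hc0⟩ := exists_ne (0 : annB (pairZ hF) (psi₁ hF) (Z0 hF H))
    exact ⟨c, hc, fun e => hc0 (Subtype.ext e)⟩
  let emb1 : F →+ (Fin 1 → F) :=
    { toFun := fun a _ => a
      map_zero' := rfl
      map_add' := fun _ _ => rfl }
  let scl : (Fin 1 → F) →+ (Fin 1 → F) :=
    { toFun := fun a => (c : F) • a
      map_zero' := smul_zero _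
      map_add' := fun a b => smul_add _ a b }
  set B : (Fin 1 → F) →+ (Fin 1 → F) →+ F := (pairV hF 1).comp scl
  have hB : Perfect B (psi₂ hF) := by
    have hP := pairV_perfect (k := 1) hF
    have hc0' : (c : F) ≠ 0 := fun e => hc0 (Subtype.ext e)
    have hBa : ∀ a v, B a v = pairV hF 1 ((c : F) • a) v := fun a v => rfl
    refine ⟨fun v h => hP.nondeg v fun a => ?_, rfl⟩
    have := h ((c : F)⁻¹ • a)
    rwa [hBa, smul_smul, mul_inv_cancel₀ hc0', one_smul] at this
  have h := card_sq_le hB ((abar hF H).map emb1) (by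
    rintro _ ⟨a, ha, rfl⟩ _ ⟨b, hb, rfl⟩
    obtain ⟨z, hz, hzv⟩ := comm_mem hF ha hb
    have h1 := mem_annB.1 hc z hz
    rw [pairZ_apply hF] at h1
    change psi₂ hF (pairV hF 1 ((c : F) • emb1 a) (emb1 b)) = 1
    rw [pairV_apply hF, herm_smul_left, herm_one, psi₂_apply hF]
    change psi₁ hF ((c : F) * (a * b ^ q) - ((c : F) * (a * b ^ q)) ^ q) = 1
    rw [mul_pow, mul_pow, pow_q_q hF, show (c : F) ^ q = c from c.2,
      show (c : F) * (a * b ^ q) - (c : F) * (a ^ q * b) = (c : F) * (z : F) by rw [hzv]; ring]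
    exact h1)
  have hcard : Nat.card ((abar hF H).map emb1) = Nat.card (abar hF H) :=
    (Nat.card_congr (AddSubgroup.equivMapOfInjective _ emb1 (fun a b e => congrFun e 0)).toEquiv).symm
  rw [hcard, Nat.card_fun, Nat.card_fin, hF, pow_one, ← pow_two] at h
  exact (Nat.pow_le_pow_iff_left two_ne_zero).1 h

end CfsgLib.MinIdxU3
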