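import Cfsg.Agent.MinIdxU3.Global
import Cfsg.Agent.Dickson.Classification
import Mathlib.FieldTheory.IsAlgClosed.AlgebraicClosure

/-!
The stabiliser of an anisotropic line acting on its chord, as a group of Moebius transformations.
-/

set_option autoImplicit false
set_option linter.style.haveILetI false
set_option linter.unusedSectionVars false

namespace CfsgLib.MinIdxU3

open Matrix CfsgLib.Unitary CfsgLib.Forms CfsgLib.MinIdxPSU CfsgLib.Dickson
open scoped OnePoint
open scoped Classical

variable {F : Type*} [Field F] [Finite F] {q : ℕ} (hF : Nat.card F = q ^ 2)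

local notation "hh" => Cfsg.hermForm (1 + 1 + 1) F q
local notation "V3" => Fin (1 + 1 + 1) → F
local notation "G3" => G 1 F q

/-- The stabiliser of the line of the anisotropic vector. -/
def L0 (F : Type*) [Field F] [Finite F] (q : ℕ) : Subgroup (G 1 F q) where
  carrier := {g | ∃ ν : F, suMat g *ᵥ wv = ν • wv}
  one_mem' := ⟨1, by rw [suMat_one, Matrix.one_mulVec, one_smul]⟩
  mul_mem' := fun {a b} ⟨ν, hν⟩ ⟨μ, hμ⟩ => ⟨μ * ν, by
    rw [suMat_mul, ← Matrix.mulVec_mulVec, hμ, Matrix.mulVec_smul, hν, smul_smul]⟩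
  inv_mem' := fun {g} ⟨ν, hν⟩ => ⟨ν⁻¹, by
    rcases eq_or_ne ν 0 with rfl | h0
    · rw [zero_smul] at hν
      have hw : (wv : Fin (1 + 1 + 1) → F) ≠ 0 := fun e => by
        have := congrArg (fun y : Fin (1 + 1 + 1) → F => proj y 0) e
        simp [wv, proj_emb] at this
      exact absurd hν (su_mulVec_ne_zero g hw)
    · conv_lhs => rw [← one_smul F wv, ← inv_mul_cancel₀ h0, ← smul_smul, ← hν, Matrix.mulVec_smul,
        su_inv_mulVec]⟩

include hF

theorem wv_ne : (wv : V3) ≠ 0 := fun e => by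
  have h := herm_ww hF
  rw [e] at h
  simp [Cfsg.hermForm] at h

theorem L0_scal {g : G3} (hg : g ∈ L0 F q) {ν : F} (hν : suMat g *ᵥ wv = ν • wv) : ν ≠ 0 := fun e =>
  su_mulVec_ne_zero g (wv_ne hF) (by rw [hν, e, zero_smul])

/-- The plane is preserved. -/
theorem L0_perp {g : G3} (hg : g ∈ L0 F q) {y : V3} (hy : hh y wv = 0) : hh (suMat g *ᵥ y) wv = 0 := by
  obtain ⟨ν, hν⟩ := hg
  have h := su_preserves g y wv
  rw [hν, herm_smul_right hF, hy] at h
  exact (mul_eq_zero.1 h).resolve_left (pow_ne_zero _ (L0_scal hF ⟨ν, hν⟩ hν))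

/-- Coordinates in the plane. -/
theorem plane_expand {y : V3} (hy : hh y wv = 0) : y = hh y (fv hF) • ev hF + hh y (ev hF) • fv hF := by
  conv_lhs => rw [expand hF y, hy, zero_smul, zero_add]

/-- The matrix on the plane. -/
noncomputable def planeMat (g : G3) : Matrix (Fin 2) (Fin 2) F :=
  !![hh (suMat g *ᵥ ev hF) (fv hF), hh (suMat g *ᵥ fv hF) (fv hF);
    hh (suMat g *ᵥ ev hF) (ev hF), hh (suMat g *ᵥ fv hF) (ev hF)]

theorem planeMat_apply {g : G3} {y : V3} (hy : hh y wv = 0) :
    hh (suMat g *ᵥ y) (fv hF) = planeMat hF g 0 0 * hh y (fv hF) + planeMat hF g 0 1 * hh y (ev hF) ∧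
    hh (suMat g *ᵥ y) (ev hF) = planeMat hF g 1 0 * hh y (fv hF) + planeMat hF g 1 1 * hh y (ev hF) := by
  constructor <;>
  · conv_lhs => rw [plane_expand hF hy, Matrix.mulVec_add, Matrix.mulVec_smul, Matrix.mulVec_smul, herm_add_left,
      herm_smul_left, herm_smul_left]
    simp [planeMat]
    ring

theorem planeMat_mul {g g' : G3} (hg' : g' ∈ L0 F q) :
    planeMat hF (g * g') = planeMat hF g * planeMat hF g' := by
  have h1 : hh (suMat g' *ᵥ ev hF) (wv : V3) = 0 := L0_perp hF hg' (herm_ew hF)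
  have h2 : hh (suMat g' *ᵥ fv hF) (wv : V3) = 0 := L0_perp hF hg' (herm_fw hF)
  have e1 := planeMat_apply hF (g := g) h1
  have e2 := planeMat_apply hF (g := g) h2
  ext i j
  rw [Matrix.mul_apply, Fin.sum_univ_two]
  fin_cases i <;> fin_cases j <;>
    simp only [planeMat, suMat_mul, ← Matrix.mulVec_mulVec, e1.1, e1.2, e2.1, e2.2, Fin.zero_eta, Fin.mk_one,
      Matrix.of_apply, Matrix.cons_val', Matrix.cons_val, Matrix.cons_val_zero, Matrix.cons_val_one,
      Matrix.empty_val', Matrix.cons_val_fin_one]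

/-- The plane matrix as a homomorphism. -/
noncomputable def planeHom : L0 F q →* Matrix (Fin 2) (Fin 2) F where
  toFun g := planeMat hF (g : G3)
  map_one' := by
    ext i j
    fin_cases i <;> fin_cases j <;>
      simp [planeMat, suMat_one, herm_ef hF, herm_ee hF, herm_ff hF, herm_fe hF]
  map_mul' g g' := planeMat_mul hF g'.2

omit hF [Finite F] in
/-- An algebraic closure. -/
abbrev Kc (F : Type*) [Field F] : Type _ := AlgebraicClosure F

/-- The chord action. -/
noncomputable def rho : L0 F q →* PGL2 (Kc F) :=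
  (Matrix.ProjGenLinGroup.mk.comp (Matrix.GeneralLinearGroup.map (algebraMap F (Kc F)))).comp
    (planeHom hF).toHomUnits

/-- The coordinate of a point of the plane. -/
noncomputable def toPt (v : V3) : OnePoint (Kc F) :=
  if hh v (ev hF) = 0 then ∞ else
    ((algebraMap F (Kc F) (hh v (fv hF) / hh v (ev hF)) : Kc F) : OnePoint (Kc F))

theorem rho_fix {g : G3} (hg : g ∈ L0 F q) {v : V3} (hv : v ≠ 0) (hvw : hh v wv = 0) {c : F}
    (hc : suMat g *ᵥ v = c • v) : rho hF ⟨g, hg⟩ • toPt hF v = toPt hF v := by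
  set φ := algebraMap F (Kc F)
  change Matrix.ProjGenLinGroup.mk _ • _ = _
  rw [mk_smul_eq]
  obtain ⟨h1, h2⟩ := planeMat_apply hF (g := g) hvw
  rw [hc, herm_smul_left] at h1 h2
  have hM : ∀ i j, (Matrix.GeneralLinearGroup.map φ ((planeHom hF).toHomUnits ⟨g, hg⟩)) i j =
      φ (planeMat hF g i j) := fun i j => rfl
  rw [toPt]
  split_ifs with h0
  · rw [OnePoint.smul_infty_eq_self_iff, hM]
    rw [h0, mul_zero, mul_zero, add_zero] at h2
    have hx : hh v (fv hF) ≠ 0 := fun hx => hv (by
      rw [plane_expand hF hvw, h0, hx, zero_smul, zero_smul, add_zero])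
    rw [(mul_eq_zero.1 h2.symm).resolve_right hx, map_zero]
  · have hc0 : c ≠ 0 := fun e => su_mulVec_ne_zero g hv (by rw [hc, e, zero_smul])
    have hd : φ (planeMat hF g 1 0) * φ (hh v (fv hF) / hh v (ev hF)) + φ (planeMat hF g 1 1) = φ c := by
      rw [← map_mul, ← map_add]
      congr 1
      field_simp
      linear_combination -h2
    have hn : φ (planeMat hF g 0 0) * φ (hh v (fv hF) / hh v (ev hF)) + φ (planeMat hF g 0 1) =
        φ c * φ (hh v (fv hF) / hh v (ev hF)) := by
      rw [← map_mul, ← map_add, ← map_mul]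
      congr 1
      field_simp
      linear_combination -h1
    rw [OnePoint.smul_some_eq_ite, hM, hM, hM, hM, hd, hn, if_neg ((map_ne_zero φ).2 hc0),
      mul_div_cancel_left₀ _ ((map_ne_zero φ).2 hc0)]

theorem plane_scalar {g : G3} (hg : g ∈ L0 F q) (h : rho hF ⟨g, hg⟩ = 1) :
    ∃ u : F, u * u ^ q = 1 ∧ ∀ y : V3, hh y wv = 0 → suMat g *ᵥ y = u • y := by
  set φ := algebraMap F (Kc F)
  change Matrix.ProjGenLinGroup.mk _ = 1 at h
  rw [Matrix.ProjGenLinGroup.mk_eq_one, Matrix.GeneralLinearGroup.center_eq_range_scalar] at h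
  obtain ⟨z, hz⟩ := h
  have hM : ∀ i j, φ (planeMat hF g i j) = (Matrix.GeneralLinearGroup.scalar (Fin 2) z : GL (Fin 2) (Kc F)) i j :=
    fun i j => by rw [hz]; rfl
  have h10 : planeMat hF g 1 0 = 0 := φ.injective (by rw [hM, map_zero]; simp [Matrix.GeneralLinearGroup.coe_scalar])
  have h01 : planeMat hF g 0 1 = 0 := φ.injective (by rw [hM, map_zero]; simp [Matrix.GeneralLinearGroup.coe_scalar])
  have hd : planeMat hF g 1 1 = planeMat hF g 0 0 :=
    φ.injective (by rw [hM, hM]; simp [Matrix.GeneralLinearGroup.coe_scalar])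
  set u := planeMat hF g 0 0 with hu
  have key : ∀ y : V3, hh y wv = 0 → suMat g *ᵥ y = u • y := fun y hy => by
    obtain ⟨h1, h2⟩ := planeMat_apply hF (g := g) hy
    rw [h01, zero_mul, add_zero] at h1
    rw [h10, hd, zero_mul, zero_add] at h2
    rw [plane_expand hF (L0_perp hF hg hy), h1, h2, ← hu, mul_smul, mul_smul, ← smul_add, ← plane_expand hF hy]
  refine ⟨u, ?_, key⟩
  have h := su_preserves g (ev hF) (fv hF)
  rw [key _ (herm_ew hF), key _ (herm_fw hF), herm_smul_left, herm_smul_right hF, herm_ef hF] at h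
  linear_combination h

/-- The order on the chord bounds the eigenvalue of a fixed point. -/
theorem norm_pow_of_rho {g : G3} (hg : g ∈ L0 F q) {v : V3} (hv : v ≠ 0) (hvw : hh v wv = 0) {c : F}
    (hc : suMat g *ᵥ v = c • v) {j : ℕ} (hj : rho hF ⟨g, hg⟩ ^ j = 1) : (c * c ^ q) ^ j = 1 := by
  rw [← map_pow] at hj
  obtain ⟨u, hu, hscal⟩ := plane_scalar hF (g := g ^ j) (pow_mem hg j) hj
  have hpow : ∀ i : ℕ, suMat (g ^ i) *ᵥ v = c ^ i • v := fun i => by
    induction i with
    | zero => rw [pow_zero, pow_zero, suMat_one, Matrix.one_mulVec, one_smul]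
    | succ i ih => rw [pow_succ, suMat_mul, ← Matrix.mulVec_mulVec, hc, Matrix.mulVec_smul, ih, smul_smul, pow_succ',
        mul_comm]
  have h := hscal v hvw
  rw [hpow] at h
  have e : c ^ j = u := smul_left_injective F hv h
  rw [mul_pow, ← pow_mul, mul_comm q j, pow_mul, e, hu]

/-- The kernel meets no unipotent element. -/
theorem rho_ne_one {g : G3} (hg : g ∈ L0 F q) (hg1 : g ≠ 1) {p : ℕ} [Fact p.Prime] [CharP F p] {j : ℕ}
    (hj : g ^ p ^ j = 1) : rho hF ⟨g, hg⟩ ≠ 1 := by
  intro h
  obtain ⟨u, -, hscal⟩ := plane_scalar hF hg h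
  obtain ⟨ν, hν⟩ := id hg
  have hroot : ∀ (c : F) (v : V3), v ≠ 0 → suMat g *ᵥ v = c • v → c = 1 := fun c v hv hc => by
    have hpow : ∀ i : ℕ, suMat (g ^ i) *ᵥ v = c ^ i • v := fun i => by
      induction i with
      | zero => rw [pow_zero, pow_zero, suMat_one, Matrix.one_mulVec, one_smul]
      | succ i ih => rw [pow_succ, suMat_mul, ← Matrix.mulVec_mulVec, hc, Matrix.mulVec_smul, ih, smul_smul, pow_succ',
          mul_comm]
    have h1 := hpow (p ^ j)
    rw [hj, suMat_one, Matrix.one_mulVec] at h1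
    have h2 : c ^ p ^ j = 1 := (smul_left_injective F hv ((one_smul F v).trans h1)).symm
    have h3 : iterateFrobenius F p j c = iterateFrobenius F p j 1 := by
      rw [iterateFrobenius_def, iterateFrobenius_def, one_pow, h2]
    exact (iterateFrobenius F p j).injective h3
  have hu : u = 1 := hroot u _ (ev_ne_zero hF) (hscal _ (herm_ew hF))
  have hν1 : ν = 1 := hroot ν _ (wv_ne hF) hν
  apply hg1
  refine ext3 hF ?_ ?_ ?_
  · rw [hν, hν1, one_smul, suMat_one, Matrix.one_mulVec]
  · rw [hscal _ (herm_ew hF), hu, one_smul, suMat_one, Matrix.one_mulVec]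
  · rw [hscal _ (herm_fw hF), hu, one_smul, suMat_one, Matrix.one_mulVec]

/-! ### The points of the chord -/

/-- Vectors for the points of the chord. -/
noncomputable def chordVec : Option (Skew hF) → V3
  | none => ev hF
  | some s => (s : F) • ev hF + fv hF

theorem chordVec_spec (o : Option (Skew hF)) :
    chordVec hF o ≠ 0 ∧ hh (chordVec hF o) (chordVec hF o) = 0 ∧ hh (chordVec hF o) wv = 0 := by
  rcases o with _ | s
  · exact ⟨ev_ne_zero hF, herm_ee hF, herm_ew hF⟩
  · have he : hh ((s : F) • ev hF + fv hF) (ev hF) = 1 := by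
      simp only [herm_add_left, herm_smul_left, herm_ee hF, herm_fe hF]
      ring
    refine ⟨fun e => ?_, ?_, ?_⟩
    · change (s : F) • ev hF + fv hF = 0 at e
      rw [e] at he
      simp [Cfsg.hermForm] at he
    · change hh ((s : F) • ev hF + fv hF) _ = 0
      simp only [chordVec, herm_add_left, herm_add_right hF, herm_smul_left, herm_smul_right hF, herm_ee hF,
        herm_ef hF, herm_fe hF, herm_ff hF]
      linear_combination (mem_skew_iff hF).1 s.2
    · change hh ((s : F) • ev hF + fv hF) wv = 0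
      simp only [herm_add_left, herm_smul_left, herm_ew hF, herm_fw hF]
      ring

/-- The points of the chord. -/
noncomputable def chordPt (o : Option (Skew hF)) : IsoPt (1 + 1 + 1) F q :=
  pt hF (chordVec hF o) (chordVec_spec hF o).1 (chordVec_spec hF o).2.1

/-- Their coordinates. -/
noncomputable def chordCoord (o : Option (Skew hF)) : OnePoint (Kc F) := toPt hF (chordVec hF o)

theorem chordCoord_injective : Function.Injective (chordCoord hF) := by
  have hs : ∀ s : Skew hF, chordCoord hF (some s) = ((algebraMap F (Kc F) (s : F) : Kc F) : OnePoint (Kc F)) := by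
    intro s
    have h1 : hh ((s : F) • ev hF + fv hF) (ev hF) = 1 := by
      simp only [herm_add_left, herm_smul_left, herm_ee hF, herm_fe hF]; ring
    have h2 : hh ((s : F) • ev hF + fv hF) (fv hF) = s := by
      simp only [herm_add_left, herm_smul_left, herm_ef hF, herm_ff hF]; ring
    rw [chordCoord, toPt]
    change (if hh ((s : F) • ev hF + fv hF) (ev hF) = 0 then _ else _) = _
    rw [if_neg (by rw [h1]; exact one_ne_zero)]
    change ((algebraMap F (Kc F) (hh ((s : F) • ev hF + fv hF) (fv hF) / hh ((s : F) • ev hF + fv hF) (ev hF)) : Kc F)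
      : OnePoint (Kc F)) = _
    rw [h1, h2, div_one]
  have hn : chordCoord hF none = ∞ := by
    rw [chordCoord, toPt]
    exact if_pos (herm_ee hF)
  rintro (_ | s) (_ | t) h
  · rfl
  · rw [hn, hs] at h; exact absurd h.symm (OnePoint.coe_ne_infty _)
  · rw [hn, hs] at h; exact absurd h (OnePoint.coe_ne_infty _)
  · rw [hs, hs] at h
    exact congrArg some (Subtype.ext ((algebraMap F (Kc F)).injective (OnePoint.coe_injective h)))

theorem card_chord : Nat.card (Option (Skew hF)) = q + 1 := by
  haveI : Finite (Skew hF) := inferInstance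
  rw [Finite.card_option, (card_fix_skew hF).2]

/-- An element of the radical fixing an anisotropic line. -/
theorem rad_fix_line {r : G3} (hr : r ∈ Rad hF) (hr1 : r ≠ 1) {w : V3} (hw : hh w w ≠ 0) {ν : F}
    (hν : suMat r *ᵥ w = ν • w) : hh w (ev hF) = 0 ∧ gam hF r = 0 := by
  rw [mem_Rad_iff] at hr
  obtain ⟨s, hs, e⟩ := eq_rad_of_lam_one hF hr.1 hr.2
  generalize gam hF r = a at hs e ⊢
  rw [e, rad_apply hF, emb_eq_smul] at hν
  have h1 := congrArg (fun x => hh x (ev hF)) hν
  simp only [herm_add_left, herm_smul_left, herm_we hF, herm_ee hF] at h1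
  have hw0 := congrArg (fun x => hh x (wv : V3)) hν
  simp only [herm_add_left, herm_smul_left, herm_ww hF, herm_ew hF, mul_one, mul_zero, add_zero] at hw0
  have hf := congrArg (fun x => hh x (fv hF)) hν
  simp only [herm_add_left, herm_smul_left, herm_wf hF, herm_ef hF, mul_one, mul_zero, add_zero,
    herm_smul_right hF] at hf
  by_cases hwe : hh w (ev hF) = 0
  · refine ⟨hwe, ?_⟩
    have hww : hh w (wv : V3) ≠ 0 := by
      intro e0
      refine hw ?_
      have h := expand hF w
      rw [e0, hwe, zero_smul, zero_smul, add_zero, zero_add] at h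
      rw [h, herm_smul_left, herm_smul_right hF, herm_ee hF]
      ring
    rw [hwe, zero_mul, add_zero] at hw0
    have hν1 : ν = 1 := (mul_eq_right₀ hww).1 hw0.symm
    rw [hν1, hwe] at hf
    have h3 : a ^ q * hh w (wv : V3) = 0 := by linear_combination -hf
    exact eq_zero_of_pow_eq_zero ((mul_eq_zero.1 h3).resolve_right hww)
  · exfalso
    have hν1 : ν = 1 := mul_right_cancel₀ hwe (by linear_combination -h1)
    rw [hν1] at hw0 hf
    have ha : a = 0 := (mul_eq_zero.1 (show hh w (ev hF) * a = 0 by linear_combination hw0)).resolve_left hwe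
    rw [ha, zero_pow (pos_q hF).ne'] at hf
    have hs0 : s = 0 := (mul_eq_zero.1 (show s * hh w (ev hF) = 0 by linear_combination hf)).resolve_right hwe
    apply hr1
    rw [e]
    refine (rad_congr hF (show (fun _ : Fin 1 => a) = 0 by rw [ha]; rfl) hs0 _).trans ?_
    exact zE_zero hF

end CfsgLib.MinIdxU3
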