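import Cfsg.Agent.MinIdxU3.CaseB1
import Cfsg.Agent.MinIdxPSU.Bound

/-!
The minimal index of a proper subgroup of the three-dimensional special unitary group.
-/

set_option autoImplicit false
set_option linter.style.haveILetI false
set_option linter.unusedSectionVars false

namespace CfsgLib.MinIdxU3

open Matrix CfsgLib.Unitary CfsgLib.Forms CfsgLib.MinIdxPSU
open scoped commutatorElement

variable {F : Type*} [Field F] [Finite F] {q : ℕ} (hF : Nat.card F = q ^ 2)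

include hF

/-- There is no small subgroup. -/
theorem not_small (hq : 3 ≤ q) (h5 : q ≠ 5) (H : Subgroup (G 1 F q)) : ¬ Small H := by
  intro hS
  obtain ⟨p, hp⟩ := CharP.exists F
  haveI : Fact p.Prime := ⟨CharP.char_is_prime F p⟩
  by_cases hQ : Nat.card (Qp hF H) = 1
  · exact caseA hF (p := p) hS hq h5 hQ
  by_cases hZ : Z0 hF H = ⊥
  · exact caseB0 hF (p := p) hS hq h5 hZ hQ
  · exact caseB1 hF (p := p) hS hq hZ

/-- The bound. -/
theorem su_three_bound (hq : 3 ≤ q) (h5 : q ≠ 5) {H : Subgroup (G 1 F q)} (hH : H ≠ ⊤) :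
    q ^ 3 + 1 ≤ H.index := by
  set Z := Subgroup.center (G 1 F q)
  by_contra hlt
  rw [not_le] at hlt
  have hK : H ⊔ Z ≠ ⊤ := by
    intro e
    apply hH
    rw [eq_top_iff, ← commutator_SU_eq_top hF (n := 1 + 1 + 1) (by norm_num) (fun h => by omega), commutator_def,
      Subgroup.commutator_le]
    intro a _ b _
    have hmem : ∀ x : G 1 F q, ∃ y ∈ H, ∃ c ∈ Z, x = y * c := fun x => by
      have hxm : x ∈ H ⊔ Z := e ▸ Subgroup.mem_top x
      obtain ⟨y, hy, c, hc, hx⟩ := Subgroup.mem_sup_of_normal_right.1 hxm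
      exact ⟨y, hy, c, hc, hx.symm⟩
    obtain ⟨y, hy, c, hc, rfl⟩ := hmem a
    obtain ⟨y', hy', c', hc', rfl⟩ := hmem b
    have e : ⁅y * c, y' * c'⁆ = ⁅y, y'⁆ := by
      have h1 := Subgroup.mem_center_iff.1 hc
      have h2 := Subgroup.mem_center_iff.1 hc'
      simp only [commutatorElement_def, _root_.mul_inv_rev]
      calc y * c * (y' * c') * (c⁻¹ * y⁻¹) * (c'⁻¹ * y'⁻¹)
          = y * (c * (y' * c')) * (c⁻¹ * y⁻¹) * (c'⁻¹ * y'⁻¹) := by group
        _ = y * ((y' * c') * c) * (c⁻¹ * y⁻¹) * (c'⁻¹ * y'⁻¹) := by rw [h1]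
        _ = y * y' * (c' * y⁻¹) * c'⁻¹ * y'⁻¹ := by group
        _ = y * y' * (y⁻¹ * c') * c'⁻¹ * y'⁻¹ := by rw [h2]
        _ = y * y' * y⁻¹ * y'⁻¹ := by group
    rw [e, commutatorElement_def]
    exact H.mul_mem (H.mul_mem (H.mul_mem hy hy') (H.inv_mem hy)) (H.inv_mem hy')
  refine not_small hF hq h5 (H ⊔ Z) ⟨le_sup_right, hK, ?_⟩
  have h1 := Nat.le_of_dvd (Nat.pos_of_ne_zero Subgroup.FiniteIndex.index_ne_zero)
    (Subgroup.index_dvd_of_le (le_sup_left : H ≤ H ⊔ Z))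
  omega

end CfsgLib.MinIdxU3
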