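import Cfsg.Agent.MinIdxU3.Chord
import Cfsg.Agent.MinIdxU3.Fix

/-!
Semisimple elements of the point stabiliser, moved to diagonal position.
-/

set_option autoImplicit false
set_option linter.style.haveILetI false
set_option linter.unusedSectionVars false

namespace CfsgLib.MinIdxU3

open Matrix CfsgLib.Unitary CfsgLib.Forms CfsgLib.MinIdxPSU CfsgLib.Dickson
open scoped Classical

variable {F : Type*} [Field F] [Finite F] {q : ℕ} (hF : Nat.card F = q ^ 2)

local notation "hh" => Cfsg.hermForm (1 + 1 + 1) F q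
local notation "V3" => Fin (1 + 1 + 1) → F
local notation "G3" => G 1 F q

include hF

/-- The middle eigenvector can be moved to the standard one. -/
theorem exists_rad_fix {g : G3} (hg : g ∈ Bor hF) (hne : lam hF g ^ q / lam hF g ≠ lam hF g) :
    ∃ r ∈ Rad hF, suMat (r * g * r⁻¹) *ᵥ wv = (lam hF g ^ q / lam hF g) • wv := by
  set ν := lam hF g ^ q / lam hF g with hν
  set t := beta hF g / (ν - lam hF g) with ht
  have hs := sec_spec (k := 1) hF (fun _ => t ^ q)
  set r := vE hF (fun _ : Fin 1 => t ^ q) with hr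
  have hrw : suMat r *ᵥ (wv + t • ev hF) = wv := by
    rw [hr, vE, rad_apply hF, emb_eq_smul]
    simp only [herm_add_left, herm_smul_left, herm_we hF, herm_ee hF, herm_smul_right hF, herm_ww hF, herm_ew hF,
      pow_q_q hF]
    module
  refine ⟨r, (mem_Rad_iff hF).2 ⟨(rad_mem hF hs).1, (rad_mem hF hs).2.1⟩, ?_⟩
  have hgw : suMat g *ᵥ (wv + t • ev hF) = ν • (wv + t • ev hF) := by
    rw [Matrix.mulVec_add, Matrix.mulVec_smul, Bor_wv hF hg, Bor_nu hF hg, Bor_ev hF hg, ← hν]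
    have hb : beta hF g + t * lam hF g = ν * t := by
      rw [ht]; field_simp [sub_ne_zero.2 hne]; ring
    rw [smul_add, smul_smul, smul_smul, ← hb]
    module
  have hrinv : suMat r⁻¹ *ᵥ wv = wv + t • ev hF := by
    have h := su_inv_mulVec r (wv + t • ev hF)
    rwa [hrw] at h
  rw [suMat_mul, suMat_mul, ← Matrix.mulVec_mulVec, ← Matrix.mulVec_mulVec, hrinv, hgw, Matrix.mulVec_smul, hrw]

theorem conj_Rad_lam {g r : G3} (hg : g ∈ Bor hF) (hr : r ∈ Rad hF) :
    r * g * r⁻¹ ∈ Bor hF ∧ lam hF (r * g * r⁻¹) = lam hF g := by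
  have hrB := Rad_le hF hr
  have hm : r * g * r⁻¹ ∈ Bor hF := mul_mem (mul_mem hrB hg) (inv_mem hrB)
  refine ⟨hm, ?_⟩
  have h := lam_mul hF hm hrB
  rw [inv_mul_cancel_right, lam_mul hF hrB hg, ((mem_Rad_iff hF).1 hr).2, one_mul, mul_one] at h
  exact h.symm

theorem gam_zero_of_fix {g : G3} (hg : g ∈ Bor hF) {ν : F} (hw : suMat g *ᵥ wv = ν • wv) : gam hF g = 0 := by
  have hb : beta hF g = 0 := by rw [beta, hw, herm_smul_left, herm_wf hF, mul_zero]
  have h := beta_eq hF hg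
  rw [hb, zero_mul, add_zero] at h
  have hl := lam_ne hF hg
  exact eq_zero_of_pow_eq_zero ((mul_eq_zero.1 h).resolve_left (div_ne_zero (pow_ne_zero _ hl) hl))

/-- What commutes with a diagonal element preserves the anisotropic line. -/
theorem mem_L0_of_commute {k y : G3} (hk : k ∈ Bor hF) (hN : lam hF k * lam hF k ^ q = 1)
    (hw : suMat k *ᵥ wv = (lam hF k ^ q / lam hF k) • wv) (hne : lam hF k ^ q / lam hF k ≠ lam hF k)
    (hy : y * k = k * y) : y ∈ L0 F q := by
  set ν := lam hF k ^ q / lam hF k with hν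
  have hz : suMat k *ᵥ (suMat y *ᵥ wv) = ν • (suMat y *ᵥ wv) := by
    rw [Matrix.mulVec_mulVec, ← suMat_mul, ← hy, suMat_mul, ← Matrix.mulVec_mulVec, hw, Matrix.mulVec_smul]
  generalize suMat y *ᵥ wv = z at hz
  refine ⟨hh (suMat y *ᵥ wv) wv, ?_⟩
  have hkey : ∀ z : V3, suMat k *ᵥ z = ν • z → z = hh z wv • wv := by
    intro z hz
    have hz' := hz
    conv_lhs at hz' => rw [expand hF z, Matrix.mulVec_add, Matrix.mulVec_add, Matrix.mulVec_smul, Matrix.mulVec_smul,
      Matrix.mulVec_smul, Bor_ev hF hk, Bor_fv hF hk, gam_zero_of_fix hF hk hw, hw, ← eq_inv_of_mul_eq_one_left hN]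
    have he := congrArg (fun x => hh x (ev hF)) hz'
    simp only [herm_add_left, herm_smul_left, herm_we hF, herm_ee hF, herm_fe hF] at he
    have h0 : hh z (ev hF) = 0 := by
      have : (lam hF k - ν) * hh z (ev hF) = 0 := by linear_combination he
      exact (mul_eq_zero.1 this).resolve_left (sub_ne_zero.2 hne.symm)
    have hf := congrArg (fun x => hh x (fv hF)) hz'
    simp only [herm_add_left, herm_smul_left, herm_wf hF, herm_ef hF, h0] at hf
    have h1 : hh z (fv hF) = 0 := by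
      have : (lam hF k - ν) * hh z (fv hF) = 0 := by linear_combination hf
      exact (mul_eq_zero.1 this).resolve_left (sub_ne_zero.2 hne.symm)
    conv_lhs => rw [expand hF z, h0, h1, zero_smul, zero_smul, add_zero, add_zero]
  exact hkey _ (by
    rw [Matrix.mulVec_mulVec, ← suMat_mul, ← hy, suMat_mul, ← Matrix.mulVec_mulVec, hw, Matrix.mulVec_smul])

/-- A diagonal element of order prime to the characteristic is scalar on the plane. -/
theorem plane_of_pow {k : G3} (hk : k ∈ Bor hF) (hN : lam hF k * lam hF k ^ q = 1) {ν : F}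
    (hw : suMat k *ᵥ wv = ν • wv) {m : ℕ} (hm : (m : F) ≠ 0) (hkm : k ^ m = 1) {y : V3} (hy : hh y wv = 0) :
    suMat k *ᵥ y = lam hF k • y := by
  have hf := Bor_fv hF hk
  rw [gam_zero_of_fix hF hk hw, zero_smul, zero_add, ← eq_inv_of_mul_eq_one_left hN] at hf
  have hpow : ∀ i : ℕ, suMat (k ^ i) *ᵥ fv hF =
      ((i : F) * lam hF k ^ (i - 1) * del hF k) • ev hF + lam hF k ^ i • fv hF := by
    intro i
    induction i with
    | zero => rw [pow_zero, pow_zero, suMat_one, Matrix.one_mulVec, one_smul]; simp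
    | succ i ih =>
      rw [pow_succ', suMat_mul, ← Matrix.mulVec_mulVec, ih, Matrix.mulVec_add, Matrix.mulVec_smul, Matrix.mulVec_smul,
        Bor_ev hF hk, hf]
      rcases i with _ | i
      · simp
      · simp only [Nat.add_sub_cancel, pow_succ]
        push_cast
        module
  have h := congrArg (fun x => hh x (fv hF)) (hpow m)
  simp only [hkm, suMat_one, Matrix.one_mulVec, herm_add_left, herm_smul_left, herm_ff hF, herm_ef hF, mul_one,
    mul_zero, add_zero] at h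
  have hd : del hF k = 0 :=
    (mul_eq_zero.1 h.symm).resolve_left (mul_ne_zero hm (pow_ne_zero _ (lam_ne hF hk)))
  rw [hd, zero_smul, zero_add] at hf
  rw [plane_expand hF hy, Matrix.mulVec_add, Matrix.mulVec_smul, Matrix.mulVec_smul, Bor_ev hF hk, hf]
  module

theorem chord_fixed {k : G3} {l : F} (hk : ∀ y : V3, hh y wv = 0 → suMat k *ᵥ y = l • y) (o : Option (Skew hF)) :
    k • chordPt hF o = chordPt hF o := by
  rw [chordPt, smul_pt, pt_eq_iff]
  exact ⟨l, (hk _ (chordVec_spec hF o).2.2).symm⟩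

/-- The image of the line stabiliser. -/
noncomputable def Lim (H : Subgroup (G 1 F q)) : Subgroup (PGL2 (Kc F)) :=
  (H.subgroupOf (L0 F q)).map (rho hF)

theorem mem_Lim {H : Subgroup (G 1 F q)} {g : G3} (hg : g ∈ H) (hgL : g ∈ L0 F q) :
    rho hF ⟨g, hgL⟩ ∈ Lim hF H :=
  ⟨⟨g, hgL⟩, Subgroup.mem_subgroupOf.2 hg, rfl⟩

theorem finite_Lim (H : Subgroup (G 1 F q)) : Finite (Lim hF H) :=
  (Set.toFinite ((rho hF) '' ((H.subgroupOf (L0 F q) : Subgroup _) : Set (L0 F q)))).to_subtype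

theorem card_Lim_dvd (H : Subgroup (G 1 F q)) : Nat.card (Lim hF H) ∣ Nat.card ↥(H ⊓ L0 F q) := by
  refine (Subgroup.card_map_dvd _ _).trans (dvd_of_eq ?_)
  exact Nat.card_congr
    { toFun := fun x => ⟨x.1.1, Subgroup.mem_subgroupOf.1 x.2, x.1.2⟩
      invFun := fun x => ⟨⟨x.1, x.2.2⟩, Subgroup.mem_subgroupOf.2 x.2.1⟩
      left_inv := fun x => rfl
      right_inv := fun x => rfl }

theorem mem_Lim_of_fix {H : Subgroup (G 1 F q)} {g : G3} (hg : g ∈ H) (hgL : g ∈ L0 F q) (o : Option (Skew hF))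
    {c : F} (hc : suMat g *ᵥ chordVec hF o = c • chordVec hF o) :
    ∃ l ∈ Lim hF H, l • chordCoord hF o = chordCoord hF o ∧ ∀ j : ℕ, l ^ j = 1 → orderOf (c * c ^ q) ∣ j :=
  ⟨_, mem_Lim hF hg hgL, rho_fix hF hgL (chordVec_spec hF o).1 (chordVec_spec hF o).2.2 hc,
    fun j hj => orderOf_dvd_of_pow_eq_one (norm_pow_of_rho hF hgL (chordVec_spec hF o).1 (chordVec_spec hF o).2.2 hc hj)⟩

/-- The eigenvalue on a conjugate point. -/
theorem eigen_conj {h g : G3} (hg : g ∈ Bor hF) {v : V3} {hv : v ≠ 0} {h0 : hh v v = 0}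
    (hP : h • P0 hF = pt hF v hv h0) : suMat (h * g * h⁻¹) *ᵥ v = lam hF g • v := by
  rw [P0, smul_pt, pt_eq_iff] at hP
  obtain ⟨a, ha⟩ := hP
  rcases eq_or_ne a 0 with rfl | ha0
  · rw [zero_smul] at ha
    exact absurd ha.symm (su_mulVec_ne_zero h (ev_ne_zero hF))
  have hv' : v = a⁻¹ • (suMat h *ᵥ ev hF) := by rw [← ha, smul_smul, inv_mul_cancel₀ ha0, one_smul]
  rw [hv', suMat_mul, suMat_mul, ← Matrix.mulVec_mulVec, ← Matrix.mulVec_mulVec, Matrix.mulVec_smul, Matrix.mulVec_smul,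
    Matrix.mulVec_smul, su_inv_mulVec, Bor_ev hF hg, Matrix.mulVec_smul, smul_comm]

theorem lam_pow {g : G3} (hg : g ∈ Bor hF) (j : ℕ) : lam hF (g ^ j) = lam hF g ^ j := by
  induction j with
  | zero => rw [pow_zero, pow_zero, lam_one]
  | succ j ih => rw [pow_succ, pow_succ, lam_mul hF (pow_mem hg j) hg, ih]

theorem lam_inj {H : Subgroup (G 1 F q)} (hQ : Nat.card (Qp hF H) = 1) {a b : G3} (ha : a ∈ H) (haB : a ∈ Bor hF)
    (hb : b ∈ H) (hbB : b ∈ Bor hF) (he : lam hF a = lam hF b) : a = b := by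
  have hmem : a * b⁻¹ ∈ Qp hF H := by
    refine ⟨H.mul_mem ha (H.inv_mem hb), (mem_Rad_iff hF).2 ⟨mul_mem haB (inv_mem hbB), ?_⟩⟩
    have h := lam_mul hF (mul_mem haB (inv_mem hbB)) hbB
    rw [inv_mul_cancel_right, he] at h
    exact mul_right_cancel₀ (lam_ne hF hbB) (by rw [one_mul]; exact h.symm)
  haveI := (Nat.card_eq_one_iff_unique.1 hQ).1
  exact mul_inv_eq_one.1 (congrArg Subtype.val (Subsingleton.elim (⟨_, hmem⟩ : Qp hF H) 1))

end CfsgLib.MinIdxU3
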